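import Cfsg.Agent.Sg.Res
import Cfsg.Agent.H8.ZS

/-! Cameron-Kantor in dimension seven: Perin's argument with a line. -/

set_option autoImplicit false
set_option linter.unusedSectionVars false

namespace Cfsg.Agent.H5.CK

open Module

theorem fieldk' {F U N : Type*} [Field F] [Fintype F] [AddCommGroup U] [Module F U] [Finite U]
    [Group N] {k : ℕ} (hk : 0 < k) (hU : finrank F U = k) (τ : Representation F N U) (z : N)
    (irr : ∀ S : Submodule F U, (∀ u ∈ S, τ z u ∈ S) → S = ⊥ ∨ S = ⊤)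
    (hc : ∀ n, Commute (n * z * n⁻¹) z) (a : N) :
    τ (a ^ k) ^ (Fintype.card F ^ k - 1) = 1 := by
  classical
  have : Nontrivial U := Module.nontrivial_of_finrank_pos (R := F) (by omega)
  have : Finite (Module.End F U) := Finite.of_injective _ (DFunLike.coe_injective (F := U →ₗ[F] U))
  set K := Subalgebra.centralizer F {τ z} with hK
  have mK : ∀ a, a ∈ K ↔ τ z * a = a * τ z := fun a => by
    simp [hK, Subalgebra.mem_centralizer_iff]
  have inj : ∀ a : K, a ≠ 0 → ∀ u, (a : Module.End F U) u = 0 → u = 0 := fun a ha u hu => by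
    rcases irr (LinearMap.ker (a : Module.End F U)) (fun u hu => by
      rw [LinearMap.mem_ker] at hu ⊢
      rw [← Module.End.mul_apply, ← (mK _).1 a.2, Module.End.mul_apply, hu, map_zero]) with e | e
    · have : u ∈ LinearMap.ker (a : Module.End F U) := hu
      rwa [e] at this
    · exact absurd (Subtype.ext (LinearMap.ker_eq_top.1 e)) ha
  have : NoZeroDivisors K := ⟨fun {a b} hab => by
    by_contra hne
    push Not at hne
    refine hne.2 (Subtype.ext (LinearMap.ext fun u => inj a hne.1 _ ?_))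
    exact LinearMap.congr_fun (congrArg Subtype.val hab) u⟩
  have : IsDomain K := NoZeroDivisors.to_isDomain K
  have hF := Finite.isDomain_to_isField K
  let _ := hF.toField
  obtain ⟨u₀, hu₀⟩ := exists_ne (0 : U)
  let ev : K →ₗ[F] U := (LinearMap.applyₗ u₀) ∘ₗ K.val.toLinearMap
  have evi : Function.Injective ev := (injective_iff_map_eq_zero ev).2 fun a ha => by
    by_contra h0
    exact hu₀ (inj a h0 u₀ ha)
  have evs : LinearMap.range ev = ⊤ := by
    refine (irr _ ?_).resolve_left fun e => hu₀ ?_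
    · rintro _ ⟨a, rfl⟩
      exact ⟨⟨τ z, (mK _).2 rfl⟩ * a, rfl⟩
    · have : u₀ ∈ LinearMap.range ev := ⟨1, rfl⟩
      rwa [e] at this
  have dK : finrank F K = k := by
    rw [← hU, ← LinearMap.finrank_range_of_inj evi, evs, finrank_top]
  have cj : ∀ (n : N) (a : K), τ n * a * τ n⁻¹ ∈ K := fun n a => by
    have h1 : τ (n⁻¹ * z * n⁻¹⁻¹) ∈ K := (mK _).2 (by rw [← map_mul, ← map_mul, (hc _).eq])
    have h2 : τ (n⁻¹ * z * n⁻¹⁻¹) * a = a * τ (n⁻¹ * z * n⁻¹⁻¹) :=
      congrArg Subtype.val (hF.mul_comm ⟨_, h1⟩ a)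
    rw [mK]
    calc τ z * (τ n * a * τ n⁻¹) = τ n * (τ (n⁻¹ * z * n⁻¹⁻¹) * a) * τ n⁻¹ := by
          simp only [← mul_assoc, ← map_mul]; simp
      _ = τ n * a * τ n⁻¹ * τ z := by
          rw [h2]; simp only [mul_assoc, ← map_mul]; simp
  have e1 : ∀ n : N, τ n⁻¹ * τ n = 1 := fun n => by rw [← map_mul]; simp
  have e2 : ∀ n : N, τ n * τ n⁻¹ = 1 := fun n => by rw [← map_mul]; simp
  let c : N →* (K →ₐ[F] K) :=
    { toFun := fun n =>
        { toFun := fun a => ⟨_, cj n a⟩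
          map_one' := Subtype.ext (by simp [e2])
          map_mul' := fun a b => Subtype.ext (by
            simp only [MulMemClass.coe_mul, mul_assoc]
            rw [← mul_assoc (τ n⁻¹) (τ n), e1, one_mul])
          map_zero' := Subtype.ext (by simp)
          map_add' := fun a b => Subtype.ext (by simp [mul_add, add_mul])
          commutes' := fun r => Subtype.ext (by
            simp [Algebra.algebraMap_eq_smul_one, e2]) }
      map_one' := AlgHom.ext fun a => Subtype.ext (by simp)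
      map_mul' := fun m n => AlgHom.ext fun a => Subtype.ext (by
        simp [mul_assoc]) }
  let σ : N →* (K ≃ₐ[F] K) := (AlgEquiv.algHomUnitsEquiv F K).toMonoidHom.comp c.toHomUnits
  have hn : σ (a ^ k) = 1 := by
    rw [map_pow, ← dK, ← IsGalois.card_aut_eq_finrank F K, pow_card_eq_one']
  generalize a ^ k = n at hn
  have h1 : c n = 1 := by
    have : c.toHomUnits n = 1 := (AlgEquiv.algHomUnitsEquiv F K).map_eq_one_iff.1 hn
    exact congrArg Units.val this
  have h2 : τ n ∈ K := by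
    have : τ n * τ z * τ n⁻¹ = τ z :=
      congrArg Subtype.val (AlgHom.congr_fun h1 ⟨τ z, (mK _).2 rfl⟩)
    rw [mK]
    conv_lhs => rw [← this, mul_assoc, e1, mul_one]
  have h0 : (⟨τ n, h2⟩ : K) ≠ 0 := fun e => by
    have : τ n = 0 := congrArg Subtype.val e
    have h := e2 n
    rw [this, zero_mul] at h
    exact zero_ne_one h
  have := Fintype.ofFinite K
  have := FiniteField.pow_card_sub_one_eq_one _ h0
  rw [Module.card_eq_pow_finrank (K := F), dK] at this
  exact congrArg Subtype.val this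

section
variable {F V Δ : Type*} [Field F] [Fintype F] [AddCommGroup V] [Module F V] [Finite V]
  [Group Δ] [Finite Δ] [DistribMulAction Δ V] [SMulCommClass Δ F V]

theorem dim_fx7 [FaithfulSMul Δ V] (hd : finrank F V = 7) {s : ℕ} (hs : s.Prime)
    (H : ∀ a b : ℕ, b ≤ a → Fintype.card F ^ a ≡ Fintype.card F ^ b [MOD s] → 5 ∣ a - b)
    {z : Δ} (hz : orderOf z = s) : finrank F (Fx F V z) = 2 := by
  have h1 := fxk hs H hz (⊤ : Submodule F V) (fun _ _ => trivial)
  rw [top_inf_eq, finrank_top, hd] at h1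
  have h2 : Fx F V z ≠ ⊤ := fun e => by
    have : z = 1 := FaithfulSMul.eq_of_smul_eq_smul (α := V) fun v => by
      rw [one_smul]; exact mem_Fx.1 (e ▸ Submodule.mem_top (R := F))
    rw [this, orderOf_one] at hz
    exact hs.one_lt.ne hz
  have := Submodule.finrank_lt h2
  omega

theorem core7 [FaithfulSMul Δ V] (hd : finrank F V = 7) {s : ℕ} (hs : s.Prime)
    (H : ∀ a b : ℕ, b ≤ a → Fintype.card F ^ a ≡ Fintype.card F ^ b [MOD s] → 5 ∣ a - b)
    {r : Δ} (hr : orderOf r = s) (hl : ∀ g : Δ, g ∈ SS Δ (Fx F V r)) {x y : V} (hy : y ≠ x) (hx : x ≠ 0)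
    (xl : x ∈ Fx F V r) (yl : y ∈ Fx F V r)
    (sp : ∀ v ∈ Fx F V r, ∃ a b : F, v = a • x + b • y)
    (u1 : ∃ g : Δ, g • x = x ∧ g • y = y + (1 : F) • x)
    (u2 : ∃ g : Δ, g • y = y ∧ g • x = x + y) : TV F V Δ := by
  have dl := dim_fx7 hd hs H hr
  have rl : ∀ v ∈ Fx F V r, r • v = v := fun v => mem_Fx.1
  generalize Fx F V r = l at *
  let C : Subgroup Δ :=
    { carrier := {g | ∀ v ∈ l, g • v = v}
      one_mem' := fun _ _ => one_smul _ _
      mul_mem' := fun {a b} ha hb v hv => by rw [mul_smul, hb v hv, ha v hv]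
      inv_mem' := fun {a} ha v hv => by rw [inv_smul_eq_iff, ha v hv] }
  have : C.Normal := ⟨fun a ha h v hv => by
    rw [mul_smul, mul_smul, ha _ (hl h⁻¹ v hv), smul_inv_smul]⟩
  obtain ⟨z, zC, oz, N, zN, hN, fr⟩ := frat C hs (hr ▸ Subgroup.orderOf_dvd_natCard C rl)
  have el : l = Fx F V z := Submodule.eq_of_le_of_finrank_eq (fun v hv => mem_Fx.2 (zC v hv))
    (by rw [dl, dim_fx7 hd hs H oz])
  obtain ⟨W₀, mW, dW⟩ : ∃ W₀ : Submodule F V, (∀ w, w ∈ W₀ ↔ ∃ v, z • v - v = w) ∧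
      finrank F W₀ = 5 := by
    refine ⟨LinearMap.range (lin F V z - LinearMap.id), fun w => by simp, ?_⟩
    have := LinearMap.finrank_range_add_finrank_ker (lin F V z - LinearMap.id)
    have e : finrank F (LinearMap.ker (lin F V z - LinearMap.id)) = 2 := dim_fx7 hd hs H oz
    omega
  have cW : ∀ a : Δ, Commute a z → a ∈ SS Δ W₀ := fun a ha w hw => by
    obtain ⟨v, rfl⟩ := (mW w).1 hw
    exact (mW _).2 ⟨a • v, by rw [smul_sub, ← mul_smul, ← ha.eq, mul_smul]⟩
  have dj : ∀ S : Submodule F V, z ∈ SS Δ S → 5 ∣ finrank F S - finrank F (S ⊓ l : Submodule F V) :=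
    fun S hS => el ▸ fxk hs H oz S hS
  have hc : IsCompl l W₀ := by
    have h1 := dj W₀ (cW z (Commute.refl z))
    have h2 := Submodule.finrank_mono (inf_le_right : W₀ ⊓ l ≤ l)
    have h3 : finrank F (W₀ ⊓ l : Submodule F V) = 0 := by omega
    rw [Submodule.finrank_eq_zero, inf_comm] at h3
    refine ⟨disjoint_iff.2 h3, codisjoint_iff.2 (Submodule.eq_top_of_finrank_eq ?_)⟩
    have := Submodule.finrank_sup_add_finrank_inf_eq l W₀
    rw [h3, finrank_bot] at this
    omega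
  have NW : ∀ n ∈ N, n ∈ SS Δ W₀ := fun n hn w hw => by
    obtain ⟨v, rfl⟩ := (mW w).1 hw
    obtain ⟨u, hu, w, hw, e⟩ :=
      Submodule.mem_sup.1 (hc.sup_eq_top ▸ Submodule.mem_top (x := n • v))
    have : n • (z • v - v) = (n * z * n⁻¹) • w - w := by
      rw [smul_sub, show n • z • v = (n * z * n⁻¹) • n • v by simp [mul_smul], ← e, smul_add,
        Subgroup.Normal.conj_mem this z zC n u hu, add_sub_add_left_eq_sub]
    rw [this]
    exact W₀.sub_mem (cW _ (hN n hn) w hw) hw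
  let τ : Representation F N W₀ := (rep F V N).subrepresentation W₀ fun n => NW n n.2
  have τa : ∀ (n : N) (w : W₀), (τ n w : V) = (n : Δ) • (w : V) := fun _ _ => rfl
  have irr : ∀ S : Submodule F W₀, (∀ u ∈ S, τ ⟨z, zN⟩ u ∈ S) → S = ⊥ ∨ S = ⊤ := fun S hS => by
      have h1 := dj (S.map W₀.subtype) (by
        rintro _ ⟨u, hu, rfl⟩
        exact ⟨_, hS u hu, rfl⟩)
      have h2 : S.map W₀.subtype ⊓ l = ⊥ :=
        disjoint_iff.1 (hc.disjoint.symm.mono_left (Submodule.map_subtype_le _ _))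
      rw [h2, finrank_bot, Submodule.finrank_map_subtype_eq] at h1
      have h3 := Submodule.finrank_le S
      by_cases h0 : finrank F S = 0
      · exact Or.inl (Submodule.finrank_eq_zero.1 h0)
      · exact Or.inr (Submodule.eq_top_of_finrank_eq (by omega))
  have cast : ((Fintype.card F ^ 5 - 1 : ℕ) : F) = -1 := by
    rw [Nat.cast_sub (Nat.one_le_pow _ _ Fintype.card_pos)]
    simp
  have A : ∀ {x y : V}, x ≠ 0 → (∀ v ∈ l, ∃ a b : F, v = a • x + b • y) → ∀ (n : N) (c : F), c ≠ 0 →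
      τ n ^ (Fintype.card F ^ 5 - 1) = 1 → (n : Δ) • x = x → (n : Δ) • y = y + c • x → TV F V Δ :=
    fun hx sp n c hc0 hn h1 h2 => tvA hc sp (fun w hw => by
      have t := τa (n ^ (Fintype.card F ^ 5 - 1)) ⟨w, hw⟩
      rw [map_pow, hn] at t
      exact t.symm) (pow_uni h1 h2 _).1 (pow_uni h1 h2 _).2 (by simpa [cast] using hc0) hx
  have lift : ∀ g : Δ, ∃ n : N, ∀ v ∈ l, (n : Δ) • v = g • v := fun g => by
    obtain ⟨n, hn, c, hc, rfl⟩ := fr g
    exact ⟨⟨n, hn⟩, fun v hv => by rw [mul_smul, hc v hv]⟩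
  obtain ⟨g, a1, a2⟩ := u1
  obtain ⟨a, ha⟩ := lift g
  rw [← ha x xl] at a1
  rw [← ha y yl] at a2
  by_cases h5 : (5 : F) = 0
  swap
  · exact A hx sp (a ^ 5) 5 h5 (fieldk' (by omega) dW τ ⟨z, zN⟩ irr (fun n => Subtype.ext (hN n n.2)) a)
      (pow_uni a1 a2 5).1 (by simpa using (pow_uni a1 a2 5).2)
  obtain ⟨g', g1, g2⟩ := u2
  obtain ⟨b, hb⟩ := lift g'
  rw [← hb y yl] at g1
  rw [← hb x xl] at g2
  rw [one_smul] at a2
  have t5 : ∀ v : V, (5 : F) • v = 0 := fun v => by rw [h5, zero_smul]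
  have a1' : (a : Δ)⁻¹ • x = x := by rw [inv_smul_eq_iff, a1]
  have a2' : (a : Δ)⁻¹ • y = y - x := by rw [inv_smul_eq_iff, smul_sub, a1, a2]; abel
  have g1' : (b : Δ)⁻¹ • y = y := by rw [inv_smul_eq_iff, g1]
  have g2' : (b : Δ)⁻¹ • x = x - y := by rw [inv_smul_eq_iff, smul_sub, g1, g2]; abel
  have ix : ((a * b * a⁻¹ * b⁻¹ : N) : Δ) • x = (3 : F) • x + y := by
    simp only [Subgroup.coe_mul, Subgroup.coe_inv, mul_smul, smul_sub, smul_add, a1, a2, a1', a2',
      g1, g2, g2']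
    module
  have iy : ((a * b * a⁻¹ * b⁻¹ : N) : Δ) • y = -x := by
    simp only [Subgroup.coe_mul, Subgroup.coe_inv, mul_smul, smul_sub, smul_add, a1, a2, a2',
      g1, g2, g1']
    abel
  have hi := fieldk (by omega) dW τ ⟨z, zN⟩ irr (fun n => Subtype.ext (hN n n.2)) a b
  generalize a * b * a⁻¹ * b⁻¹ = i at ix iy hi
  refine A (x := y - x) (y := x) (sub_ne_zero.2 hy) (fun v hv => ?_) (i * i) 3 (fun h3 => ?_) ?_ ?_ ?_
  · obtain ⟨c, d, rfl⟩ := sp v hv
    exact ⟨d, c + d, by module⟩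
  · exact one_ne_zero (by linear_combination 2 * h3 - h5 : (1 : F) = 0)
  · rw [map_mul, ← sq, ← pow_mul, mul_comm, pow_mul, hi, one_pow]
  · simp only [Subgroup.coe_mul, mul_smul, smul_sub, smul_add, smul_neg, gsm, ix, iy]
    linear_combination (norm := module) (-2 : F) • t5 x - t5 y
  · simp only [Subgroup.coe_mul, mul_smul, smul_sub, smul_add, smul_neg, gsm, ix, iy]
    linear_combination (norm := module) (2 : F) • t5 x

end

theorem exists_ppd45 {q k : ℕ} (hq : 2 ≤ q) (hk : k = 4 ∨ k = 5) : ∃ s : ℕ, s.Prime ∧ s ∣ q ^ k - 1 ∧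
    ∀ a b : ℕ, b ≤ a → q ^ a ≡ q ^ b [MOD s] → k ∣ a - b := by
  obtain ⟨s, hs, o⟩ : ∃ s : ℕ, s.Prime ∧ orderOf (q : ZMod s) = k := by
    rcases hq.eq_or_lt with rfl | hq
    · simpa using H2.Tr.bang (n := k) (by omega) (by omega)
    · exact H8.ZS.zsig3 hq (by omega)
  exact ⟨s, hs, H8.ZS.ppd_of_order (by omega) hs o⟩

section
variable {F V W Γ : Type*} [Field F] [Fintype F] [AddCommGroup V] [Module F V] [Finite V]
  [AddCommGroup W] [Module F W] [Finite W] [Group Γ] [Finite Γ]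
  [DistribMulAction Γ V] [SMulCommClass Γ F V] [DistribMulAction Γ W] [SMulCommClass Γ F W]
  {B : V →ₗ[F] W →ₗ[F] F}

theorem Hyp.perin7 [FaithfulSMul Γ V] (h : Hyp Γ B) (hd : finrank F V = 7)
    (hv : Fintype.card F ^ 5 - 1 ∣ Nat.card Γ) : TV F V Γ := by
  obtain ⟨s, hs, sd, H⟩ := exists_ppd45 (q := Fintype.card F) Fintype.one_lt_card (.inr rfl)
  have := Fact.mk hs
  obtain ⟨r, hr⟩ := exists_prime_orderOf_dvd_card' (G := Γ) s (sd.trans hv)
  have dl := dim_fx7 (V := V) hd hs H hr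
  obtain ⟨x, xl, hx⟩ := H7.exists_mem_notMem_of_finrank_lt (U := Fx F V r) (W := ⊥)
    (by rw [finrank_bot]; omega)
  have hx := ne_zero_of_not_mem hx
  obtain ⟨y, yl, hy⟩ := H7.exists_mem_notMem_of_finrank_lt (U := Fx F V r) (W := F ∙ x)
    (by rw [finrank_span_singleton hx]; omega)
  have sp : ∀ v ∈ Fx F V r, ∃ a b : F, v = a • x + b • y := fun v hv => by
    obtain ⟨a, b, e⟩ := Submodule.mem_span_pair.1 (span_two_le (U := Submodule.span F {x, y}) dl hx
      hy xl yl (Submodule.subset_span (by simp)) (Submodule.subset_span (by simp)) hv)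
    exact ⟨a, b, e.symm⟩
  have mem : ∀ g : Γ, g • x ∈ Fx F V r → g • y ∈ Fx F V r → g ∈ SS Γ (Fx F V r) :=
    fun g h1 h2 v hv => by
      obtain ⟨a, b, rfl⟩ := sp v hv
      rw [smul_add, gsm, gsm]
      exact Submodule.add_mem _ (Submodule.smul_mem _ _ h1) (Submodule.smul_mem _ _ h2)
  let r' : SS Γ (Fx F V r) := ⟨r, fun v hv => by rwa [mem_Fx.1 hv]⟩
  obtain ⟨g, b, h1, h2, h3⟩ := core7 (Δ := SS Γ (Fx F V r)) (r := r') hd hs H
    (by rw [← Subgroup.orderOf_coe, hr]) (fun g => g.2)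
    (fun e => hy (by rw [e]; exact Submodule.mem_span_singleton_self _)) hx xl yl sp
    (by
      obtain ⟨g, g1, g2⟩ := h.uni hy 1
      exact ⟨⟨g, mem g (by rwa [g1]) (by
        rw [g2]; exact Submodule.add_mem _ yl (Submodule.smul_mem _ _ xl))⟩, g1, g2⟩)
    (by
      obtain ⟨g, g1, g2⟩ := h.uni (not_mem_span_symm hx hy) 1
      rw [one_smul] at g2
      exact ⟨⟨g, mem g (by rw [g2]; exact Submodule.add_mem _ xl yl) (by rwa [g1])⟩, g1, g2⟩)
  exact ⟨g, b, h1, h2, h3⟩

end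

universe u v

open scoped LinearAlgebra.Projectivization in
/-- the Cameron-Kantor theorem in dimension seven from the structure theorem -/
theorem ck7_of {F : Type u} {V : Type v} [Field F] [Fintype F] [AddCommGroup V] [Module F V] [FiniteDimensional F V]
    (ST : ∀ (U : Type v) [AddCommGroup U] [Module F U] [Finite U] [Finite (Dl F U)] [Finite (U ≃ₗ[F] U)]
      (M : Subgroup (U ≃ₗ[F] U)), Hyp M (ev F U) → 7 ≤ finrank F U → Tr M (ev F U) ∨
        (Odd (finrank F U) ∧ Fintype.card F ^ (finrank F U - 3) - 1 ∣ Nat.card M))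
    (h7 : finrank F V = 7) (M : Subgroup (V ≃ₗ[F] V))
    (h2 : ∀ x y x' y' : ℙ F V, x ≠ y → x' ≠ y' → ∃ g ∈ M, g • x = x' ∧ g • y = y')
    (g : V ≃ₗ[F] V) (hg : LinearEquiv.det g = 1) : g ∈ M := by
  have : Finite V := Module.finite_of_finite F
  have : Finite (Dl F V) := Module.finite_of_finite (R := F) (M := Dual F V)
  have : Finite (V ≃ₗ[F] V) := Finite.of_injective _ (DFunLike.coe_injective (F := V ≃ₗ[F] V))
  have h := hyp_withScal (by omega) M h2
  have tv : TV F V (withScal M) := by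
    rcases ST V _ h h7.ge with tr | ⟨-, e⟩
    · exact h.perin7 h7 (h.tr_dvd tr h7)
    · obtain ⟨s, hs, sd, H⟩ := exists_ppd45 (q := Fintype.card F) Fintype.one_lt_card (.inl rfl)
      rw [h7] at e
      exact h.perin h7 le_rfl hs H (sd.trans e)
  refine H7.mem_of_det_of_has (fun φ b hb => has_of_withScal hb ?_) g hg
  obtain ⟨t, ht⟩ := h.all_tv tv (-b) φ (by
    show φ (-b) = 0
    simp [hb])
  exact ⟨t, t.2, ht⟩

end Cfsg.Agent.H5.CK
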