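import Cfsg.Agent.H2.DRb

set_option autoImplicit false

/-! Small fixity. -/

namespace Cfsg.Agent.H2.DRc
open MulAction Finset Cfsg.Agent.H3.DR Cfsg.Agent.H2.DRb
open Classical

universe u v

variable {G : Type*} {Ω : Type*} [Group G] [Fintype G] [MulAction G Ω] [Fintype Ω]

theorem jl {a b : Ω} (hab : a ≠ b) :
    (#{g : G | g • (a, b) = (a, b)} : ℝ) - 1 ≤ #{g : G | g • (a, b) = (a, b)} * jj G Ω := by
  have N0 : (0 : ℝ) < Fintype.card G := by exact_mod_cast Fintype.card_pos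
  have h := key2 hab (fun g : G => if g = 1 then 0 else 1) (fun g => by split_ifs <;> norm_num) fun t g => by
    simp [mul_inv_eq_one]
  have e1 : ∑ g : G with g • (a, b) = (a, b), (if g = 1 then (0 : ℝ) else 1) = #{g : G | g • (a, b) = (a, b)} - 1 := by
    rw [← sum_erase_add _ _ (show (1 : G) ∈ _ from by simp), sum_congr rfl fun g hg => if_neg (mem_erase.1 hg).1,
      sum_const, card_erase_of_mem (by simp), nsmul_eq_mul, Nat.cast_pred (card_pos.2 ⟨1, by simp⟩), if_pos rfl]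
    simp
  have e2 : ∑ g : G, (if g = 1 then (0 : ℝ) else 1) * ((fx Ω g : ℝ) * (fx Ω g - 1)) = jj G Ω * Fintype.card G := by
    rw [jj, div_mul_cancel₀ _ N0.ne', ← sum_erase_add _ _ (mem_univ (1 : G)), if_pos rfl, zero_mul, add_zero]
    exact sum_congr rfl fun g hg => by rw [if_neg (mem_erase.1 hg).1, one_mul]
  rw [e1, e2] at h
  exact le_of_mul_le_mul_left (by linarith) N0

theorem orb {a b : Ω} (hab : a ≠ b) : Nat.card (orbit (stabilizer G a) b) + 1 ≤ Fintype.card Ω := by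
  rw [Nat.card_coe_set_eq, ← Nat.card_eq_fintype_card, ← Set.ncard_univ]
  refine Set.ncard_lt_ncard (Set.ssubset_univ_iff.2 fun c => ?_)
  obtain ⟨g, hg⟩ : a ∈ orbit (stabilizer G a) b := c.symm ▸ Set.mem_univ a
  exact hab ((smul_left_cancel_iff g).1 ((show g • a = a from g.2).trans hg.symm))

theorem p2 : P2.{u, v} := fun G Ω _ _ _ _ _ t hn hF h => by
  have : Nonempty Ω := Fintype.card_pos_iff.1 (by omega)
  have N0 : (0 : ℝ) < Fintype.card G := by exact_mod_cast Fintype.card_pos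
  have n1 : (100 : ℝ) ≤ Fintype.card Ω := by exact_mod_cast hn
  have s1 : (10 : ℝ) ≤ √(Fintype.card Ω) := Real.le_sqrt_of_sq_le (by linarith)
  have s2 : √(Fintype.card Ω) * √(Fintype.card Ω) = (Fintype.card Ω : ℝ) := Real.mul_self_sqrt (by linarith)
  have f1 : (fx Ω (1 : G) : ℝ) = Fintype.card Ω := by simp [fx]
  have d1 : dl G Ω * Fintype.card G = ∑ g ∈ univ.erase (1 : G), max ((fx Ω g : ℝ) - 1) 0 + (Fintype.card Ω - 1) := by
    rw [b2 t, ← sum_erase_add _ _ (mem_univ (1 : G)), f1, max_eq_left (by linarith)]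
  have d2 : jj G Ω * Fintype.card G ≤ √(Fintype.card Ω) * ∑ g ∈ univ.erase (1 : G), max ((fx Ω g : ℝ) - 1) 0 := by
    rw [jj, div_mul_cancel₀ _ N0.ne', mul_sum]
    exact sum_le_sum fun g hg => tm g (hF g (mem_erase.1 hg).1)
  have d0 : 0 ≤ ∑ g ∈ univ.erase (1 : G), max ((fx Ω g : ℝ) - 1) 0 := sum_nonneg fun g _ => le_max_right _ _
  rw [Tg, div_le_iff₀ (by linarith)]
  rcases h with h | ⟨g, g1, g2⟩
  · have e : (Fintype.card G : ℝ) = Fintype.card Ω := by
      rw [← b1 t, ← sum_erase_add _ _ (mem_univ (1 : G)), f1, sum_eq_zero fun g hg => by rw [h g (mem_erase.1 hg).1, Nat.cast_zero],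
        zero_add]
    rw [e] at d1
    nlinarith
  obtain ⟨a, ha, b, hb, hab⟩ := one_lt_card.1 (show 1 < #{c : Ω | g • c = c} from g2)
  have l2 : 2 ≤ #{g : G | g • (a, b) = (a, b)} := one_lt_card.2 ⟨g, by
    simp [(mem_filter.1 ha).2, (mem_filter.1 hb).2], 1, by simp, g1⟩
  have j := jl (G := G) hab
  generalize ∑ g ∈ univ.erase (1 : G), max ((fx Ω g : ℝ) - 1) 0 = A at d0 d1 d2
  rcases l2.eq_or_lt with l | l
  · have h1 : Fintype.card G + 2 * Fintype.card Ω ≤ 2 * Fintype.card Ω * Fintype.card Ω := by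
      rw [← c1 t a, ← c2 a b, ← l]
      have := orb (G := G) hab
      nlinarith
    have h2 : (Fintype.card G : ℝ) + 2 * Fintype.card Ω ≤ 2 * Fintype.card Ω * Fintype.card Ω := by exact_mod_cast h1
    rw [← l] at j
    push_cast at j
    generalize √(Fintype.card Ω : ℝ) = s at *
    generalize (Fintype.card Ω : ℝ) = n at *
    generalize (Fintype.card G : ℝ) = N at *
    have h3 : N ≤ 2 * (s * A) := by nlinarith
    have h4 : s * N ≤ 2 * n * A := by rw [← s2]; nlinarith
    refine le_of_mul_le_mul_right ?_ N0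
    rw [mul_right_comm (dl G Ω), d1]
    nlinarith
  · have h4 : (3 : ℝ) ≤ #{g : G | g • (a, b) = (a, b)} := by exact_mod_cast l
    generalize (#{g : G | g • (a, b) = (a, b)} : ℝ) = l at j h4
    have h5 : 2 / 3 ≤ jj G Ω := by nlinarith
    generalize √(Fintype.card Ω : ℝ) = s at *
    generalize (Fintype.card Ω : ℝ) = n at *
    generalize (Fintype.card G : ℝ) = N at *
    have h3 : 2 * N ≤ 3 * (s * A) := by nlinarith
    have h6 : 2 * (s * N) ≤ 3 * (n * A) := by rw [← s2]; nlinarith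
    refine le_of_mul_le_mul_right ?_ N0
    rw [mul_right_comm (dl G Ω), d1]
    nlinarith

end Cfsg.Agent.H2.DRc
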