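import Cfsg.Agent.H2.DRc

set_option autoImplicit false

/-! No projective plane of fixed point sets. -/

namespace Cfsg.Agent.H2.DRd
open MulAction Finset Cfsg.Agent.H3.DR Cfsg.Agent.H2.DRb
open Classical

variable {G : Type*} {Ω : Type*} [Group G] [MulAction G Ω] [Fintype Ω]

/-- at most one non-identity element fixes two given points -/
def Uq (G Ω : Type*) [Group G] [MulAction G Ω] : Prop :=
  ∀ (a b : Ω) (x y : G), a ≠ b → x ≠ 1 → y ≠ 1 → x • a = a → x • b = b → y • a = a → y • b = b → x = y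

theorem cnt (g : G) (h : Ω → G) (p : Ω → Ω) (W : Finset Ω) (hf : ∀ c, g • c = c → fx Ω (h c) = fx Ω g ∧ h c • p c = p c)
    (hW : ∀ c, g • c = c → ∀ y, y ≠ p c → h c • y = y → y ∈ W)
    (hd : ∀ c d, g • c = c → g • d = d → ∀ y, y ≠ p c → y ≠ p d → h c • y = y → h d • y = y → c = d) :
    fx Ω g * (fx Ω g - 1) ≤ #W ∧ (#W ≤ fx Ω g * (fx Ω g - 1) → ∀ y ∈ W, ∃ c, g • c = c ∧ h c • y = y) := by
  have e : #(({c : Ω | g • c = c} : Finset Ω).biUnion fun c => ({y : Ω | h c • y = y} : Finset Ω).erase (p c)) =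
      fx Ω g * (fx Ω g - 1) := by
    rw [card_biUnion, sum_congr rfl (g := fun _ => fx Ω g - 1), sum_const, smul_eq_mul, fx]
    · intro c hc
      have := hf c (mem_filter.1 hc).2
      rw [card_erase_of_mem (by simpa using this.2), ← this.1, fx]
    · intro c hc d hd' n
      refine disjoint_left.2 fun y y1 y2 => n ?_
      exact hd c d (by simpa using hc) (by simpa using hd') y (mem_erase.1 y1).1 (mem_erase.1 y2).1
        (mem_filter.1 (mem_erase.1 y1).2).2 (mem_filter.1 (mem_erase.1 y2).2).2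
  have s : (({c : Ω | g • c = c} : Finset Ω).biUnion fun c => ({y : Ω | h c • y = y} : Finset Ω).erase (p c)) ⊆ W := by
    intro y hy
    obtain ⟨c, hc, y1⟩ := mem_biUnion.1 hy
    exact hW c (mem_filter.1 hc).2 y (mem_erase.1 y1).1 (mem_filter.1 (mem_erase.1 y1).2).2
  refine ⟨e ▸ card_le_card s, fun l y hy => ?_⟩
  rw [← eq_of_subset_of_card_le s (e ▸ l)] at hy
  obtain ⟨c, hc, y1⟩ := mem_biUnion.1 hy
  exact ⟨c, (mem_filter.1 hc).2, (mem_filter.1 (mem_erase.1 y1).2).2⟩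

theorem plane (u : Uq G Ω) (t2 : ∀ a b c d : Ω, a ≠ b → c ≠ d → ∃ t : G, t • a = c ∧ t • b = d) {g : G} (g1 : g ≠ 1)
    {x : Ω} (hx : g • x ≠ x) (hf : 2 ≤ fx Ω g) (hn : Fintype.card Ω ≤ fx Ω g * (fx Ω g - 1) + 1) : False := by
  obtain ⟨a, ha, b, hb, hab⟩ := one_lt_card.1 (show 1 < #{c : Ω | g • c = c} from hf)
  have cj : ∀ t k : G, k ≠ 1 → t * k * t⁻¹ ≠ 1 := fun t k h c => h (by simpa [mul_inv_eq_one] using c)
  have fj : ∀ (t k : G) (c : Ω), k • c = c → (t * k * t⁻¹) • t • c = t • c := fun t k c h => by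
    rw [mul_smul, inv_smul_smul, mul_smul, h]
  have ex : ∀ c : Ω, ∃ h : G, g • c = c → h ≠ 1 ∧ fx Ω h = fx Ω g ∧ h • x = x ∧ h • c = c := fun c => by
    by_cases e : g • c = c
    · obtain ⟨t, t1, t3⟩ := t2 a b x c hab fun n => hx (n ▸ e)
      exact ⟨t * g * t⁻¹, fun _ => ⟨cj t g g1, fx_conj t g, t1 ▸ fj t g a (mem_filter.1 ha).2, t3 ▸ fj t g b (mem_filter.1 hb).2⟩⟩
    · exact ⟨1, fun h => absurd h e⟩
  choose h hh using ex
  obtain ⟨c, hc, c1⟩ := (cnt g h (fun _ => x) (univ.erase x) (fun c e => ⟨(hh c e).2.1, (hh c e).2.2.1⟩)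
    (fun c _ y n _ => by simpa using n) fun c d e1 e2 y n _ y1 y2 => by_contra fun ne => by
      have k := u x y _ _ n.symm (hh c e1).1 (hh d e2).1 (hh c e1).2.2.1 y1 (hh d e2).2.2.1 y2
      exact hx (u c d _ _ ne (hh c e1).1 g1 (hh c e1).2.2.2 (k ▸ (hh d e2).2.2.2) e1 e2 ▸ (hh c e1).2.2.1)).2
    (by rw [card_erase_of_mem (mem_univ _), card_univ]; omega) (g • x) (by simpa using hx)
  obtain ⟨k1, k2, k3, k4⟩ := hh c hc
  have cm : g * h c * g⁻¹ = h c := u (g • x) c _ _ (fun e => hx ((smul_left_cancel_iff g).1 (by rw [e, hc])))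
    (cj _ _ k1) k1 (fj _ _ _ k3) (by simpa [hc] using fj g _ _ k4) c1 k4
  have ex2 : ∀ d : Ω, ∃ k : G, g • d = d → k ≠ 1 ∧ k ≠ g ∧ fx Ω k = fx Ω g ∧ k • d = d ∧ g * k * g⁻¹ = k := fun d => by
    by_cases e : g • d = d
    swap
    · exact ⟨1, fun h => absurd h e⟩
    by_cases n : c = d
    · exact ⟨h c, fun _ => ⟨k1, fun q => hx (q ▸ k3), k2, n ▸ k4, cm⟩⟩
    obtain ⟨t, t1, t3⟩ := t2 c d d c n (Ne.symm n)
    have q : t * g * t⁻¹ = g := u d c _ _ (Ne.symm n) (cj _ _ g1) g1 (t1 ▸ fj t g c hc) (t3 ▸ fj t g d e) e hc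
    refine ⟨t * h c * t⁻¹, fun _ => ⟨cj _ _ k1, fun r => hx ?_, (fx_conj _ _).trans k2, t1 ▸ fj t _ c k4, ?_⟩⟩
    · rw [← q] at r
      exact mul_left_cancel (mul_right_cancel r) ▸ k3
    · calc _ = (t * g * t⁻¹) * (t * h c * t⁻¹) * (t * g * t⁻¹)⁻¹ := by rw [q]
        _ = t * (g * h c * g⁻¹) * t⁻¹ := by group
        _ = _ := by rw [cm]
  choose k hk using ex2
  have := (cnt g k id (univ \ ({c : Ω | g • c = c} : Finset Ω)) (fun c e => ⟨(hk c e).2.2.1, (hk c e).2.2.2.1⟩)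
    (fun c e y n y1 => by
      simp only [mem_sdiff, mem_univ, mem_filter, true_and]
      exact fun y2 => (hk c e).2.1 (u y c _ _ n (hk c e).1 g1 y1 (hk c e).2.2.2.1 y2 e))
    fun c d e1 e2 y n _ y1 y2 => by_contra fun ne => by
      have ny : g • y ≠ y := fun y3 => (hk c e1).2.1 (u y c _ _ n (hk c e1).1 g1 y1 (hk c e1).2.2.2.1 y3 e1)
      have q := u (g • y) y _ _ ny (hk c e1).1 (hk d e2).1 ((hk c e1).2.2.2.2 ▸ fj g _ y y1) y1
        ((hk d e2).2.2.2.2 ▸ fj g _ y y2) y2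
      exact (hk c e1).2.1 (u c d _ _ ne (hk c e1).1 g1 (hk c e1).2.2.2.1 (q ▸ (hk d e2).2.2.2.1) e1 e2)).1
  rw [card_sdiff_of_subset (subset_univ _), card_univ] at this
  change _ ≤ _ - fx Ω g at this
  have : fx Ω g * 1 ≤ fx Ω g * (fx Ω g - 1) := Nat.mul_le_mul_left _ (by omega)
  omega

end Cfsg.Agent.H2.DRd
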