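import Cfsg.Agent.H4.T8E
import Cfsg.Agent.H4.T8G

/-!
Elements of order seven of `E₈(3)` have a large fixed space on the adjoint module.
-/

set_option autoImplicit false
set_option linter.unusedSectionVars false
set_option maxRecDepth 100000

namespace Cfsg.Agent.H2.E8S

open Matrix Polynomial Cfsg.Agent.Chv Cfsg.Agent.H6.Gs Cfsg.Agent.Chv.E8 Cfsg.Agent.H1.E8 Cfsg.Lie H6.Gs.Sys H4.T8

/-- test -/
noncomputable def t7 (_ V : ℕ) : Bool := Bool.rec true (Nat.ble 25 (cnt 7 1 0 V)) (H4.T8.inv 7 V)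

theorem c7 : enum 7 t7 = true := by decide +kernel

theorem mat_fix {A : Matrix (Fin 8) (Fin 8) ℚ} (h : A ^ 7 = 1) (h1 : A ≠ 1) {b : Fin 3 → Fin 8 → ℚ}
    (hb : ∀ i, A *ᵥ b i = b i) : ¬ LinearIndependent ℚ b := fun hl => by
  classical
  have : Fact (Nat.Prime 7) := ⟨by decide⟩
  have hirr := cyclotomic.irreducible_rat (n := 7) (by decide)
  obtain ⟨q, hq⟩ : cyclotomic 7 ℚ ∣ A.charpoly := by
    by_contra hd
    obtain ⟨a, b, hab⟩ := hirr.coprime_iff_not_dvd.2 hd
    have h2 := congrArg (aeval A) (cyclotomic_prime_mul_X_sub_one ℚ 7)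
    have h3 := congrArg (aeval A) hab
    simp only [map_mul, map_sub, map_add, aeval_X, map_one, map_pow, h, sub_self, aeval_self_charpoly, mul_zero,
      add_zero] at h2 h3
    have h4 := congrArg (aeval A a * ·) h2
    exact h1 (by simpa only [← mul_assoc, h3, one_mul, mul_zero, sub_eq_zero] using h4)
  have h0 : cyclotomic 7 ℚ * q ≠ 0 := hq ▸ A.charpoly_monic.ne_zero
  have h2 := congrArg natDegree hq
  rw [natDegree_mul hirr.ne_zero (right_ne_zero_of_mul h0), natDegree_cyclotomic, charpoly_natDegree_eq_dim,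
    Nat.totient_prime (by decide), Fintype.card_fin] at h2
  have h3 := LinearMap.finrank_eigenspace_le (toLin' A) 1
  rw [charpoly_toLin', hq, rootMultiplicity_mul h0, rootMultiplicity_eq_zero (by
    rw [IsRoot, eval_one_cyclotomic_prime]; norm_num), ← count_roots] at h3
  have h4 := (Multiset.count_le_card (1 : ℚ) q.roots).trans (card_roots' q)
  have h5 := Submodule.finrank_mono (show Submodule.span ℚ (Set.range b) ≤ Module.End.eigenspace (toLin' A) 1 from
    Submodule.span_le.2 (by rintro _ ⟨i, rfl⟩; simpa using hb i))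
  rw [finrank_span_eq_card hl, Fintype.card_fin] at h5
  omega

theorem lat_fix {w : L ≃+ L} (h : ∀ v, w^[7] v = v) (h1 : ∃ v, w v ≠ v) {b : Fin 3 → L} (hb : ∀ i, w (b i) = b i) :
    ¬ LinearIndependent ℤ b := fun hl => by
  let W : Module.End ℤ L := w.toAddMonoidHom.toIntLinearMap
  let φ : Module.End ℤ L →+* Matrix (Fin 8) (Fin 8) ℚ :=
    (Int.castRingHom ℚ).mapMatrix.comp (LinearMap.toMatrixAlgEquiv' (R := ℤ) (n := Fin 8)).toRingEquiv.toRingHom
  have hφ : Function.Injective φ :=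
    (Matrix.map_injective Int.cast_injective).comp (LinearMap.toMatrixAlgEquiv' (R := ℤ) (n := Fin 8)).injective
  have h2 : W ^ 7 = 1 := LinearMap.ext fun v => (Module.End.pow_apply W _ v).trans (h v)
  refine mat_fix (A := φ W) (by rw [← map_pow, h2, map_one]) (fun e => ?_) (b := fun i => Int.castRingHom ℚ ∘ b i)
    (fun i => funext fun j => ?_) ?_
  · obtain ⟨v, hv⟩ := h1
    exact hv (LinearMap.congr_fun (hφ (e.trans (map_one φ).symm)) v)
  · have := RingHom.map_mulVec (Int.castRingHom ℚ) (LinearMap.toMatrix' W) (b i) j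
    rw [LinearMap.toMatrix'_mulVec, show W (b i) = b i from hb i] at this
    exact this.symm
  · rw [← LinearIndependent.iff_fractionRing ℤ ℚ]
    exact hl.map' (((Int.castRingHom ℚ).toAddMonoidHom.compLeft (Fin 8)).toIntLinearMap)
      (LinearMap.ker_eq_bot.2 fun u v e => funext fun j => Int.cast_injective (α := ℚ) (congrFun e j))

theorem card_fix {w : L ≃+ L} (h : ∀ v, w^[7] v = v) (h1 : ∃ v, w v ≠ v) :
    (Finset.univ.filter fun r : Fin 240 => w (R.rt r) = R.rt r).card ≤ 13 := by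
  classical
  set Fx := Finset.univ.filter fun r : Fin 240 => w (R.rt r) = R.rt r
  have hn : ∀ r, R.rt (R.neg r) = -R.rt r := R.rt_neg
  rcases Fx.eq_empty_or_nonempty with h0 | ⟨a, ha⟩
  · simp [h0]
  by_cases h2 : Fx ⊆ {a, R.neg a}
  · exact (Finset.card_le_card h2).trans (Finset.card_le_two.trans (by decide))
  obtain ⟨b, hb, hb'⟩ := Finset.not_subset.1 h2
  have key : ∀ {r s : Fin 240}, s ∉ ({r, R.neg r} : Finset _) → B (R.rt r) (R.rt s) ∈ Finset.Icc (-1 : ℤ) 1 :=
    fun {r s} hs => by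
      have e1 := B_le (B_rt r) (B_rt s)
      have e2 := le_B (B_rt r) (B_rt s)
      have e3 : B (R.rt r) (R.rt s) ≠ 2 := fun e => hs (by simp [R.ext (eq_of_B (B_rt r) (B_rt s) e)])
      have e4 : B (R.rt r) (R.rt s) ≠ -2 := fun e =>
        hs (by simp [R.ext ((eq_neg_of_B (B_rt r) (B_rt s) e).trans (hn r).symm)])
      rw [Finset.mem_Icc]
      omega
  have h3 : (Fx \ ({a, R.neg a} ∪ {b, R.neg b})).card ≤ (Finset.Icc (-1 : ℤ) 1 ×ˢ Finset.Icc (-1 : ℤ) 1).card :=
    Finset.card_le_card_of_injOn (fun s => (B (R.rt a) (R.rt s), B (R.rt b) (R.rt s))) (fun s hs => by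
      have := Finset.notMem_union.1 (Finset.mem_sdiff.1 hs).2
      exact Finset.mem_coe.2 (Finset.mem_product.2 ⟨key this.1, key this.2⟩)) fun s hs t ht e => by
        by_contra hst
        have e1 : B (R.rt a) (R.rt s - R.rt t) = 0 := by rw [B_sub_right, sub_eq_zero]; exact (Prod.mk.inj e).1
        have e2 : B (R.rt b) (R.rt s - R.rt t) = 0 := by rw [B_sub_right, sub_eq_zero]; exact (Prod.mk.inj e).2
        have e3 : B (R.rt s - R.rt t) (R.rt s - R.rt t) ≠ 0 := fun e => hst (R.ext (sub_eq_zero.1 (eq_zero_of_B e)))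
        have e4 : w (R.rt s - R.rt t) = R.rt s - R.rt t := by
          rw [map_sub, (Finset.mem_filter.1 (Finset.mem_sdiff.1 hs).1).2, (Finset.mem_filter.1 (Finset.mem_sdiff.1 ht).1).2]
        generalize R.rt s - R.rt t = c at e1 e2 e3 e4
        refine lat_fix h h1 (b := ![R.rt a, R.rt b, c]) (fun i => ?_) (Fintype.linearIndependent_iff.2 fun g hg => ?_)
        · fin_cases i
          exacts [(Finset.mem_filter.1 ha).2, (Finset.mem_filter.1 hb).2, e4]
        · rw [Fin.sum_univ_three] at hg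
          change g 0 • R.rt a + g 1 • R.rt b + g 2 • c = 0 at hg
          have f1 := congrArg (B (R.rt a)) hg
          have f2 := congrArg (B (R.rt b)) hg
          have f3 := congrArg (fun v => B v c) hg
          have f4 := Finset.mem_Icc.1 (key hb')
          simp only [B_add_left, B_add_right, B_smul_left, B_smul_right, B_rt, e1, e2, B_zero_left, B_zero_right,
            B_comm (R.rt b) (R.rt a), mul_zero, zero_add, add_zero, mul_eq_zero, e3, or_false] at f1 f2 f3
          have f5 : g 0 = 0 ∧ g 1 = 0 := by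
            obtain ⟨f4, f5⟩ := f4
            generalize B (R.rt a) (R.rt b) = m at *
            interval_cases m <;> omega
          intro i
          fin_cases i
          exacts [f5.1, f5.2, f3]
  have h4 := Finset.le_card_sdiff ({a, R.neg a} ∪ {b, R.neg b}) Fx
  have h5 := (Finset.card_union_le {a, R.neg a} {b, R.neg b}).trans (add_le_add Finset.card_le_two Finset.card_le_two)
  rw [Finset.card_product, Int.card_Icc] at h3
  change _ ≤ 9 at h3
  omega

theorem exists_reps {π : Equiv.Perm (Fin 240)} (h : π ^ 7 = 1) (hf : (Finset.univ.filter fun r => π r = r).card ≤ 13) :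
    ∃ T : Finset (Fin 240), 33 ≤ T.card ∧ ∀ r ∈ T, ∀ s ∈ T, ∀ j < 7, (π ^ j) s = r → s = r ∧ j = 0 := by
  classical
  have : Fact (Nat.Prime 7) := ⟨by decide⟩
  have h1 : ∀ j s, (π ^ (6 * j % 7)) ((π ^ j) s) = s := fun j s => by
    rw [← pow_eq_pow_mod _ h, ← Equiv.Perm.mul_apply, ← pow_add, show 6 * j + j = 7 * j by ring, pow_mul, h, one_pow]
    rfl
  refine ⟨Finset.univ.filter fun r => π r ≠ r ∧ ∀ j : ℕ, r ≤ (π ^ j) r, ?_, fun r hr s hs j hj e => ?_⟩
  · have h2 : Finset.univ.filter (fun r => ¬ π r = r) ⊆ (Finset.range 7 ×ˢ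
        Finset.univ.filter fun r => π r ≠ r ∧ ∀ j : ℕ, r ≤ (π ^ j) r).image fun p => (π ^ p.1) p.2 := fun s hs => by
      obtain ⟨_, ⟨j, rfl⟩, hm⟩ := (wellFounded_lt (α := Fin 240)).has_min (Set.range fun j : ℕ => (π ^ j) s) ⟨_, 0, rfl⟩
      refine Finset.mem_image.2 ⟨(6 * j % 7, (π ^ j) s), Finset.mem_product.2 ⟨Finset.mem_range.2 (Nat.mod_lt _ (by decide)),
        Finset.mem_filter.2 ⟨Finset.mem_univ _, fun e => (Finset.mem_filter.1 hs).2 ?_, fun i => not_lt.1 (hm _ ⟨i + j, ?_⟩)⟩⟩,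
        h1 j s⟩
      · rw [← Equiv.Perm.mul_apply, ← pow_succ', pow_succ, Equiv.Perm.mul_apply] at e
        exact (π ^ j).injective e
      · simp only [pow_add, Equiv.Perm.mul_apply]
    have h3 := (Finset.card_le_card h2).trans Finset.card_image_le
    have h4 := Finset.card_filter_add_card_filter_not (s := Finset.univ) (fun r => π r = r)
    rw [Finset.card_product, Finset.card_range] at h3
    rw [Finset.card_fin] at h4
    omega
  · obtain ⟨-, h2, h3⟩ := Finset.mem_filter.1 hr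
    obtain ⟨-, h4, h5⟩ := Finset.mem_filter.1 hs
    obtain rfl : s = r := le_antisymm (e ▸ h5 j) (by have := h3 (6 * j % 7); rwa [← e, h1, e] at this)
    refine ⟨rfl, by_contra fun h0 => h2 ?_⟩
    have h6 := Equiv.Perm.pow_apply_eq_self_of_apply_eq_self e (j ^ 5)
    rwa [← pow_mul, pow_eq_pow_mod _ h, show j * j ^ 5 % 7 = 1 by interval_cases j <;> simp at h0 ⊢, pow_one] at h6

theorem rank_add_dm {k : Type*} [Field k] {ι : Type} [Fintype ι] [DecidableEq ι] (A : Matrix ι ι k) :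
    (A - 1).rank + dm ⊤ (toLin' A) 1 = Fintype.card ι := by
  have h1 := (toLin' (A - 1)).finrank_range_add_finrank_ker
  rw [Module.finrank_fintype_fun_eq_card] at h1
  rw [dm, top_inf_eq, Module.End.eigenspace_def, ← h1, rank, ← toLin'_apply', map_sub, toLin'_one, one_smul]
  rfl

theorem dm_conj_map {k K : Type*} [Field k] [Field K] {ι : Type} [Fintype ι] [DecidableEq ι] (f : k →+* K)
    (A : Matrix ι ι k) (P : GL ι K) : dm ⊤ (toLin' A) 1 = dm ⊤ (toLin' (P.1 * A.map f * (P⁻¹).1)) 1 := by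
  have h1 := rank_add_dm A
  have h2 := rank_add_dm (P.1 * A.map f * (P⁻¹).1)
  rw [show P.1 * A.map f * (P⁻¹).1 - 1 = P.1 * (A - 1).map f * (P⁻¹).1 by
    rw [Matrix.map_sub _ (map_sub f), Matrix.map_one _ (map_zero f) (map_one f), mul_sub, sub_mul, mul_one, ← Units.val_mul P,
      mul_inv_cancel, Units.val_one], rank_mul_eq_left_of_isUnit_det _ _ ((isUnit_iff_isUnit_det _).1 P⁻¹.isUnit),
    rank_mul_eq_right_of_isUnit_det _ _ ((isUnit_iff_isUnit_det _).1 P.isUnit), rank_map] at h2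
  omega

theorem card_le_dm {l : ℕ} {K : Type*} [Field K] {ι Φ : Type} [Fintype ι] [DecidableEq ι] {R : RD ι Φ l} {n : GL ι K}
    {w : Lam l ≃+ Lam l} {π : Equiv.Perm Φ} (h : Mon R n w π) (h7 : n ^ 7 = 1) {T : Finset Φ}
    (hT : ∀ r ∈ T, ∀ s ∈ T, ∀ j < 7, (π ^ j) s = r → s = r ∧ j = 0) : T.card ≤ dm ⊤ (toLin' n.1) 1 := by
  classical
  have h1 : ∀ r s : T, (∑ j ∈ Finset.range 7, n.1 ^ j) (R.ei r) (R.ei s) = if r = s then 1 else 0 := fun r s => by
    rw [Finset.sum_range_succ', pow_zero, Matrix.add_apply, Matrix.sum_apply, Finset.sum_eq_zero fun j hj => ?_, zero_add,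
      one_apply]
    · exact if_congr ⟨fun e => Subtype.ext (R.rt_inj (congrArg R.wt e)), fun e => e ▸ rfl⟩ rfl rfl
    · by_contra e
      obtain ⟨w', h2, -⟩ := h.pow (j + 1)
      have := R.ext ((h2.rt s).trans (h2.mono _ _ (by rwa [Units.val_pow_eq_pow_val])).symm)
      exact absurd (hT _ r.2 _ s.2 _ (Nat.succ_lt_succ (Finset.mem_range.1 hj)) this).2 (Nat.succ_ne_zero j)
  have h2 := finrank_le_add (k := K) (V := T → K) ⊤ ⊥ (⊤ ⊓ Module.End.eigenspace (toLin' n.1) 1)
    (toLin' (Matrix.of fun a (s : T) => (∑ j ∈ Finset.range 7, n.1 ^ j) a (R.ei s))) (fun v _ => mem_eig.2 (by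
      rw [toLin'_apply, toLin'_apply, mulVec_mulVec]
      refine congrArg (· *ᵥ v) (Matrix.ext fun a s => ?_)
      have h3 := mul_geom_sum n.1 7
      rw [← Units.val_pow_eq_pow_val, h7, Units.val_one, sub_self, sub_mul, one_mul, sub_eq_zero] at h3
      exact congrFun (congrFun h3 a) (R.ei s))) fun v _ e => funext fun r => by
        have := congrFun e (R.ei r)
        rw [toLin'_apply, mulVec, dotProduct] at this
        simpa [h1] using this
  rwa [finrank_top, finrank_bot, Module.finrank_fintype_fun_eq_card, Fintype.card_coe] at h2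

theorem main (x : chevE8.group (ZMod 3)) (hx : x ^ 7 = 1) : 33 ≤ dm ⊤ (rho x) 1 := by
  obtain ⟨ζ, hζ⟩ := exists_prim (N := 7 ^ 2) (by decide)
  have h7 : FF x ^ 7 = 1 := by rw [← map_pow, hx, map_one]
  obtain ⟨c, -, -, hn⟩ := conj_N (S := S3 h3K) lfK (p := 7) (by decide) (sep (by decide)) hζ (one_mem _) (FF_mem x) (by simp)
    (k := 1) (by rwa [pow_one])
  obtain ⟨w, π, ha⟩ := exists_act hn
  have h8 : (c * FF x * c⁻¹) ^ 7 = 1 := by rw [conj_pow, h7, mul_one, mul_inv_cancel]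
  obtain ⟨w', h1, h2⟩ := ha.toMon.pow 7
  rw [h8, ← R.h.map_one] at h1
  by_cases hw : ∃ v, w v ≠ v
  · obtain ⟨T, h3, h4⟩ := exists_reps (h1.perm_eq (mon_h 1)) (le_of_eq_of_le (congrArg _ (Finset.filter_congr fun r _ =>
      ⟨fun e => by rw [← ha.rt, e], fun e => R.ext ((ha.rt r).trans e)⟩)) (card_fix (fun v => by
        rw [← h2, h1.w_eq (h1.perm_eq (mon_h 1) ▸ mon_h (1 : Chr 8 KK))]; rfl) hw))
    rw [show rho x = toLin' x.1.1 from rfl, dm_conj_map (algebraMap _ KK) _ c]
    exact h3.trans (card_le_dm ha.toMon h8 h4)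
  · obtain ⟨ζ, hζ⟩ := exists_prim (N := 7) (by decide)
    obtain ⟨q, V, h3, h4, -, h5⟩ := kac (by decide) hζ hx (mem_H ha.toMon hn fun i => by
      rw [R.ext (r := π (R.sim i)) (r' := R.sim i) ((ha.rt _).trans (by_contra fun e => hw ⟨_, e⟩))]
      exact R.pos_sim i) c7
    have h6 := h5 1 0 1 (by decide) (by simp)
    rw [t7, h4] at h3
    rw [pow_one, show ind 0 0 = 1 from rfl] at h6
    have := Nat.le_of_ble_eq_true h3
    omega

end Cfsg.Agent.H2.E8S
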