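import Mathlib

set_option autoImplicit false

/-! Ring computations with an element `a` of order three and quaternion units normalised by it. -/

namespace Cfsg.Agent.H2.QuatAlg

variable {R : Type*} [Ring R]

/-- `a` has order three, `X` has order four and `X * a` has order three. -/
structure Pair (a X : R) : Prop where
  aa : a * a + a + 1 = 0
  xx : X * X = -1
  xa : X * a + a * X + X + 1 = 0

/-- `a⁻¹ X a` -/
def J (a X : R) : R := a - X * a - X
/-- `a X a⁻¹` -/
def K (a X : R) : R := X * a + a + 1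
/-- anticommutator -/
def f (X Y : R) : R := X * Y + Y * X

theorem f_comm (X Y : R) : f X Y = f Y X := add_comm _ _

/-- `noncomm_ring` followed by numeral normalisation -/
scoped macro "ncr" : tactic => `(tactic| (noncomm_ring <;> norm_num))

namespace Pair
variable {a X Y : R}

theorem r1 (h : Pair a X) : a * a = -a - 1 := by linear_combination (norm := ncr) h.aa
theorem r1' (h : Pair a X) (x : R) : a * (a * x) = -(a * x) - x := by
  rw [← mul_assoc, h.r1]; noncomm_ring
theorem r2' (h : Pair a X) (x : R) : X * (X * x) = -x := by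
  rw [← mul_assoc, h.xx]; noncomm_ring
theorem r3 (h : Pair a X) : a * X = -(X * a) - X - 1 := by
  linear_combination (norm := ncr) h.xa
theorem r3' (h : Pair a X) (x : R) : a * (X * x) = -(X * (a * x)) - X * x - x := by
  rw [← mul_assoc, h.r3]; noncomm_ring

end Pair

/-- normalise products using the relations -/
local macro "qn " "[" hs:Lean.Parser.Tactic.simpLemma,* "]" : tactic =>
  `(tactic| (simp only [J, K, f, mul_add, add_mul, mul_sub, sub_mul, mul_assoc, mul_one, one_mul,
    mul_neg, neg_mul, neg_neg, neg_add_rev, neg_sub, $hs,*]; try abel))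

namespace Pair
variable {a X Y : R}

theorem pJ (h : Pair a X) : Pair a (J a X) :=
  ⟨h.aa, by qn [h.r1, h.r1', h.xx, h.r2', h.r3, h.r3'], by qn [h.r1, h.r1', h.xx, h.r2', h.r3, h.r3']⟩
theorem pK (h : Pair a X) : Pair a (K a X) :=
  ⟨h.aa, by qn [h.r1, h.r1', h.xx, h.r2', h.r3, h.r3'], by qn [h.r1, h.r1', h.xx, h.r2', h.r3, h.r3']⟩
theorem JJ (h : Pair a X) : J a (J a X) = K a X := by qn [h.r1, h.r1', h.xx, h.r2', h.r3, h.r3']
theorem KJ (h : Pair a X) : K a (J a X) = X := by qn [h.r1, h.r1', h.xx, h.r2', h.r3, h.r3']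
theorem JK (h : Pair a X) : J a (K a X) = X := by qn [h.r1, h.r1', h.xx, h.r2', h.r3, h.r3']
theorem KK (h : Pair a X) : K a (K a X) = J a X := by qn [h.r1, h.r1', h.xx, h.r2', h.r3, h.r3']
theorem mIJ (h : Pair a X) : X * J a X = K a X := by qn [h.r1, h.r1', h.xx, h.r2', h.r3, h.r3']
theorem mJI (h : Pair a X) : J a X * X = -K a X := by qn [h.r1, h.r1', h.xx, h.r2', h.r3, h.r3']
theorem mJK (h : Pair a X) : J a X * K a X = X := by qn [h.r1, h.r1', h.xx, h.r2', h.r3, h.r3']
theorem mKJ (h : Pair a X) : K a X * J a X = -X := by qn [h.r1, h.r1', h.xx, h.r2', h.r3, h.r3']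
theorem mKI (h : Pair a X) : K a X * X = J a X := by qn [h.r1, h.r1', h.xx, h.r2', h.r3, h.r3']
theorem mIK (h : Pair a X) : X * K a X = -J a X := by qn [h.r1, h.r1', h.xx, h.r2', h.r3, h.r3']
theorem aJ (h : Pair a X) : a * J a X = X * a := by qn [h.r1, h.r1', h.xx, h.r2', h.r3, h.r3']
theorem Ka (h : Pair a X) : K a X * a = a * X := by qn [h.r1, h.r1', h.xx, h.r2', h.r3, h.r3']
theorem sum (a X : R) : X + J a X + K a X = 2 * a + 1 := by simp only [J, K]; noncomm_ring

theorem f_a (h : Pair a X) (k : Pair a Y) : Commute (f X Y) a := by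
  unfold Commute SemiconjBy
  qn [h.r1, h.r1', h.xx, h.r2', h.r3, h.r3', k.xx, k.r2', k.r3, k.r3']
theorem f_X (h : Pair a X) (Y : R) : Commute (f X Y) X := by
  unfold Commute SemiconjBy
  qn [h.xx, h.r2']
theorem f_Y (k : Pair a Y) (X : R) : Commute (f X Y) Y := by rw [f_comm]; exact k.f_X X
theorem fJ (h : Pair a X) (k : Pair a Y) : f X (J a Y) = f (K a X) Y := by
  qn [h.r1, h.r1', h.xx, h.r2', h.r3, h.r3', k.xx, k.r2', k.r3, k.r3']
theorem fK (h : Pair a X) (k : Pair a Y) : f X (K a Y) = f (J a X) Y := by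
  qn [h.r1, h.r1', h.xx, h.r2', h.r3, h.r3', k.xx, k.r2', k.r3, k.r3']
theorem f_sum (k : Pair a Y) (X : R) : f X Y + f (J a X) Y + f (K a X) Y = -2 := by
  rw [← one_add_one_eq_two]
  qn [k.xx, k.r2', k.r3, k.r3']
theorem expand (h : Pair a X) (k : Pair a Y) :
    2 * Y = -(f X Y * X + f (J a X) Y * J a X + f (K a X) Y * K a X) := by
  rw [two_mul]
  qn [h.r1, h.r1', h.xx, h.r2', h.r3, h.r3', k.xx, k.r2', k.r3, k.r3']

end Pair

theorem commute_J {c a X : R} (h1 : Commute c a) (h2 : Commute c X) : Commute c (J a X) :=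
  (h1.sub_right (h2.mul_right h1)).sub_right h2
theorem commute_K {c a X : R} (h1 : Commute c a) (h2 : Commute c X) : Commute c (K a X) :=
  ((h2.mul_right h1).add_right h1).add_right (Commute.one_right c)
theorem commute_f {c X Y : R} (h1 : Commute c X) (h2 : Commute c Y) : Commute c (f X Y) :=
  (h1.mul_right h2).add_right (h2.mul_right h1)

theorem sq_comb {a X u w v : R} (h : Pair a X) (ua : Commute u a) (uX : Commute u X)
    (wa : Commute w a) (wX : Commute w X) (va : Commute v a) (vX : Commute v X)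
    (uw : Commute u w) (uv : Commute u v) (wv : Commute w v) :
    (u * X + w * J a X + v * K a X) * (u * X + w * J a X + v * K a X) = -(u * u + w * w + v * v) := by
  have e : ∀ {c d P Q : R}, Commute d P → c * P * (d * Q) = c * d * (P * Q) := by
    intro c d P Q hd
    rw [mul_assoc, ← mul_assoc P, ← hd.eq, mul_assoc, mul_assoc]
  simp only [mul_add, add_mul]
  rw [e uX, e (commute_J ua uX), e (commute_K ua uX), e wX, e (commute_J wa wX),
    e (commute_K wa wX), e vX, e (commute_J va vX), e (commute_K va vX), h.xx, h.pJ.xx, h.pK.xx,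
    h.mIJ, h.mJI, h.mJK, h.mKJ, h.mKI, h.mIK, uw.eq, uv.eq, wv.eq]
  noncomm_ring

theorem sum_sq {a X Y : R} (h : Pair a X) (k : Pair a Y) :
    f X Y * f X Y + f (J a X) Y * f (J a X) Y + f (K a X) Y * f (K a X) Y = 4 := by
  have ua := h.f_a k
  have wa := h.pJ.f_a k
  have va := h.pK.f_a k
  have uX := h.f_X Y
  have wX : Commute (f (J a X) Y) X := by
    have := commute_K wa (h.pJ.f_X Y); rwa [h.KJ] at this
  have vX : Commute (f (K a X) Y) X := by
    have := commute_J va (h.pK.f_X Y); rwa [h.JK] at this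
  have := sq_comb h ua uX wa wX va vX (commute_f (commute_J ua uX) (k.f_Y X))
    (commute_f (commute_K ua uX) (k.f_Y X)) (commute_f (commute_K wa wX) (k.f_Y _))
  rw [← neg_eq_iff_eq_neg.mpr (h.expand k), neg_mul_neg] at this
  have e : 2 * Y * (2 * Y) = 4 * (Y * Y) := by noncomm_ring
  rw [e, k.xx] at this
  linear_combination (norm := ncr) this

theorem three_values [Nontrivial R] (h2 : IsUnit (2 : R)) {u w v : R}
    (hu : u = -1 ∨ u = 0 ∨ u * u + u = 1) (hw : w = -1 ∨ w = 0 ∨ w * w + w = 1)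
    (hv : v = -1 ∨ v = 0 ∨ v * v + v = 1) (hs : u + w + v = -2) (hq : u * u + w * w + v * v = 4) :
    (u = -1 ∧ v * v + v = 1) ∨ (w = -1 ∧ u * u + u = 1) ∨ (v = -1 ∧ w * w + w = 1) := by
  have h20 : (2 : R) ≠ 0 := h2.ne_zero
  have h10 : (1 : R) ≠ 0 := one_ne_zero
  have tot : (u * u + u) + (w * w + w) + (v * v + v) = 2 := by
    linear_combination (norm := ncr) hs + hq
  have z : ∀ x : R, x = -1 ∨ x = 0 → x * x + x = 0 := by
    rintro x (rfl | rfl) <;> simp
  have zero_case : ∀ x y : R, x * x + x = 1 → y * y + y = 1 → x + y = -2 → False := by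
    intro x y hx hy hxy
    have e : y = -2 - x := by linear_combination (norm := ncr) hxy
    rw [e] at hy
    have : 2 * (x + 1) = 0 := by linear_combination (norm := ncr) hy - hx
    have := h2.mul_right_eq_zero.mp this
    rw [eq_neg_of_add_eq_zero_left this] at hx
    exact h10 (by linear_combination (norm := ncr) -hx)
  rw [← or_assoc] at hu hw hv
  rcases hu with hu | hu <;> rcases hw with hw | hw <;> rcases hv with hv | hv
  · exact absurd (by linear_combination (norm := ncr) z u hu + z w hw + z v hv - tot) h20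
  · exact absurd (by linear_combination (norm := ncr) z u hu + z w hw + hv - tot) h10
  · exact absurd (by linear_combination (norm := ncr) z u hu + hw + z v hv - tot) h10
  · rcases hu with hu | hu
    · exact Or.inl ⟨hu, hv⟩
    · exact (zero_case w v hw hv (by linear_combination (norm := ncr) hs - hu)).elim
  · exact absurd (by linear_combination (norm := ncr) hu + z w hw + z v hv - tot) h10
  · rcases hw with hw | hw
    · exact Or.inr (Or.inl ⟨hw, hu⟩)
    · exact (zero_case u v hu hv (by linear_combination (norm := ncr) hs - hw)).elim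
  · rcases hv with hv | hv
    · exact Or.inr (Or.inr ⟨hv, hw⟩)
    · exact (zero_case u w hu hw (by linear_combination (norm := ncr) hs - hv)).elim
  · exact absurd (by linear_combination (norm := ncr) tot - hu - hw - hv) h10

/-- `Y` is an icosian unit over the quaternion units determined by `a`, `X`. -/
structure Gold (a X Y φ : R) : Prop where
  pX : Pair a X
  pY : Pair a Y
  φφ : φ * φ = φ + 1
  φa : Commute φ a
  φX : Commute φ X
  φY : Commute φ Y
  eqY : 2 * Y = X + J a X + φ * (K a X - J a X)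

theorem gold_of {a X Y : R} (h : Pair a X) (k : Pair a Y) (hu : f X Y = -1)
    (hv : f (K a X) Y * f (K a X) Y + f (K a X) Y = 1) : Gold a X Y (-f (K a X) Y) := by
  have va := h.pK.f_a k
  have vX : Commute (f (K a X) Y) X := by
    have := commute_J va (h.pK.f_X Y); rwa [h.JK] at this
  refine ⟨h, k, by linear_combination (norm := ncr) hv, va.neg_left, vX.neg_left,
    (k.f_Y _).neg_left, ?_⟩
  have hs := k.f_sum X
  have hw : f (J a X) Y = -1 - f (K a X) Y := by
    linear_combination (norm := ncr) hs - hu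
  rw [h.expand k, hu, hw]
  noncomm_ring

theorem KJ_sq {a X : R} (h : Pair a X) : (K a X - J a X) * (K a X - J a X) = -2 := by
  rw [← one_add_one_eq_two]
  qn [h.r1, h.r1', h.xx, h.r2', h.r3, h.r3']

theorem commute_of_gold (h2 : IsUnit (2 : R)) {a X Y φ c : R} (g : Gold a X Y φ)
    (ca : Commute c a) (cX : Commute c X) (cY : Commute c Y) : Commute c φ := by
  have h1 : Commute c (φ * (K a X - J a X)) := by
    have : φ * (K a X - J a X) = 2 * Y - X - J a X := by rw [g.eqY]; abel
    rw [this]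
    exact ((((Commute.ofNat_right c 2).mul_right cY).sub_right cX).sub_right (commute_J ca cX))
  have h3 := h1.mul_right ((commute_K ca cX).sub_right (commute_J ca cX))
  rw [mul_assoc, KJ_sq g.pX] at h3
  have : 2 * (c * φ - φ * c) = 0 := by linear_combination (norm := ncr) -h3.eq
  exact sub_eq_zero.mp (h2.mul_right_eq_zero.mp this)

theorem four_f {a X Y Y' φ ψ : R} (g : Gold a X Y φ) (g' : Gold a X Y' ψ) :
    f (2 * Y) (2 * Y') = -4 + 2 * ψ + 2 * φ - 2 * (φ * ψ + ψ * φ) ∧
    f (2 * Y) (2 * J a Y') = -2 - 2 * ψ + (φ * ψ + ψ * φ) + (2 * a + 1) * (φ * ψ - ψ * φ) ∧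
    f (2 * Y) (2 * K a Y') = -2 - 2 * φ + (φ * ψ + ψ * φ) - (2 * a + 1) * (φ * ψ - ψ * φ) := by
  have h := g.pX
  have e1 : 2 * J a Y' = 2 * a - 2 * Y' * a - 2 * Y' := by simp only [J]; noncomm_ring
  have e2 : 2 * K a Y' = 2 * Y' * a + 2 * a + 2 := by simp only [K]; ncr
  rw [e1, e2, g.eqY, g'.eqY]
  have a1 := g.φa.eq
  have a2 := g.φX.eq
  have a3 := g'.φa.eq
  have a4 := g'.φX.eq
  have b1 : ∀ x, φ * (a * x) = a * (φ * x) := fun x => by rw [← mul_assoc, a1, mul_assoc]
  have b2 : ∀ x, φ * (X * x) = X * (φ * x) := fun x => by rw [← mul_assoc, a2, mul_assoc]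
  have b3 : ∀ x, ψ * (a * x) = a * (ψ * x) := fun x => by rw [← mul_assoc, a3, mul_assoc]
  have b4 : ∀ x, ψ * (X * x) = X * (ψ * x) := fun x => by rw [← mul_assoc, a4, mul_assoc]
  have four : (4 : R) = 1 + 1 + 1 + 1 := by norm_num
  rw [four, ← one_add_one_eq_two]
  refine ⟨?_, ?_, ?_⟩ <;>
    qn [h.r1, h.r1', h.xx, h.r2', h.r3, h.r3', a1, a2, a3, a4, b1, b2, b3, b4]

theorem f_two (Y Z : R) : f (2 * Y) (2 * Z) = 4 * f Y Z := by simp only [f]; noncomm_ring

theorem commute_of_alpha (h2 : IsUnit (2 : R)) {a X γ : R} (h : Pair a X) (hγ : Commute γ X)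
    (hγa : Commute γ a) (hc : Commute ((2 * a + 1) * γ) X) : γ = 0 := by
  have e : (X * (2 * a + 1) - (2 * a + 1) * X) = 2 * (K a X - J a X) := by
    rw [← one_add_one_eq_two]
    qn [h.r1, h.r1', h.xx, h.r2', h.r3, h.r3']
  have e2 : 2 * ((K a X - J a X) * γ) = 0 := by
    rw [← mul_assoc, ← e, sub_mul, mul_assoc, mul_assoc _ X γ, ← hγ.eq, ← mul_assoc _ γ X, hc.eq,
      sub_self]
  have e3 := h2.mul_right_eq_zero.mp e2
  have e4 : (K a X - J a X) * ((K a X - J a X) * γ) = 0 := by rw [e3, mul_zero]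
  rw [← mul_assoc, KJ_sq h, neg_mul, neg_eq_zero] at e4
  exact h2.mul_right_eq_zero.mp e4

theorem not_fK [Nontrivial R] (h2 : IsUnit (2 : R)) {a X Y Y' φ ψ : R} (g : Gold a X Y φ)
    (g' : Gold a X Y' ψ) : f Y (K a Y') ≠ -1 := by
  intro h
  have e := (four_f g g').2.2
  rw [f_two, h] at e
  have c : Commute (φ * ψ - ψ * φ) X :=
    ((g.φX.mul_left g'.φX).sub_left (g'.φX.mul_left g.φX))
  have e1 : (2 * a + 1) * (φ * ψ - ψ * φ) = 2 - 2 * φ + (φ * ψ + ψ * φ) := by
    linear_combination (norm := ncr) e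
  have e2 := commute_of_alpha h2 g.pX c ((g.φa.mul_left g'.φa).sub_left (g'.φa.mul_left g.φa)) (by
    rw [e1]
    exact (((Commute.ofNat_left 2 X).sub_left ((Commute.ofNat_left 2 X).mul_left g.φX)).add_left
      ((g.φX.mul_left g'.φX).add_left (g'.φX.mul_left g.φX))))
  have e3 : ψ * φ = φ * ψ := (sub_eq_zero.mp e2).symm
  rw [e2, e3] at e1
  have e4 : 1 - φ + φ * ψ = 0 := h2.mul_right_eq_zero.mp (by
    linear_combination (norm := ncr) -e1)
  have e5 : φ = -ψ := by
    linear_combination (norm := ncr) e4 * ψ - φ * g'.φφ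
  have e6 := g.φφ
  rw [e5] at e6
  have e7 : ψ = 0 := h2.mul_right_eq_zero.mp (by
    linear_combination (norm := ncr) e6 - g'.φφ)
  have := g'.φφ
  rw [e7] at this
  simp at this

theorem not_fJ [Nontrivial R] (h2 : IsUnit (2 : R)) {a X Y Y' φ ψ : R} (g : Gold a X Y φ)
    (g' : Gold a X Y' ψ) : f Y (J a Y') ≠ -1 := by
  rw [g.pY.fJ g'.pY, f_comm]
  exact not_fK h2 g' g

theorem not_f [Nontrivial R] (h2 : IsUnit (2 : R)) (h3 : IsUnit (3 : R)) {a X Y Y' φ ψ : R}
    (g : Gold a X Y φ) (g' : Gold a X Y' ψ) (hc : Commute φ ψ) : f Y Y' ≠ -1 := by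
  intro h
  have e := (four_f g g').1
  rw [f_two, h, ← hc.eq] at e
  have e1 : ψ + φ - 2 * (φ * ψ) = 0 := h2.mul_right_eq_zero.mp (by
    linear_combination (norm := ncr) -e)
  have s1 : (2 * φ - 1) * (2 * φ - 1) = 5 := by linear_combination (norm := ncr) 4 * g.φφ
  have s2 : (2 * ψ - 1) * (2 * ψ - 1) = 5 := by linear_combination (norm := ncr) 4 * g'.φφ
  have s3 : (2 * φ - 1) * (2 * ψ - 1) = 1 := by linear_combination (norm := ncr) -2 * e1
  have s4 : (2 * φ - 1) = 5 * (2 * ψ - 1) := by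
    rw [← s1, mul_assoc, s3, mul_one]
  rw [s4, mul_assoc, s2] at s3
  have : (2 : R) * (2 * (2 * 3)) = 0 := by linear_combination (norm := ncr) s3
  exact h3.ne_zero (h2.mul_right_eq_zero.mp (h2.mul_right_eq_zero.mp (h2.mul_right_eq_zero.mp this)))

theorem commute_g (h2 : IsUnit (2 : R)) {a X Y Y' φ ψ : R} (g : Gold a X Y φ)
    (g' : Gold a X Y' ψ) : Commute ((Y - X) * (Y' - X)) a := by
  have h := g.pX
  have e : 2 * (2 * ((Y - X) * (Y' - X))) = (2 * Y - 2 * X) * (2 * Y' - 2 * X) := by noncomm_ring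
  have a1 := g.φa.eq
  have a2 := g.φX.eq
  have a3 := g'.φa.eq
  have a4 := g'.φX.eq
  have b1 : ∀ x, φ * (a * x) = a * (φ * x) := fun x => by rw [← mul_assoc, a1, mul_assoc]
  have b2 : ∀ x, φ * (X * x) = X * (φ * x) := fun x => by rw [← mul_assoc, a2, mul_assoc]
  have b3 : ∀ x, ψ * (a * x) = a * (ψ * x) := fun x => by rw [← mul_assoc, a3, mul_assoc]
  have b4 : ∀ x, ψ * (X * x) = X * (ψ * x) := fun x => by rw [← mul_assoc, a4, mul_assoc]
  have c : (2 * Y - 2 * X) * (2 * Y' - 2 * X) * a - a * ((2 * Y - 2 * X) * (2 * Y' - 2 * X)) = 0 := by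
    rw [g.eqY, g'.eqY, ← one_add_one_eq_two]
    qn [h.r1, h.r1', h.xx, h.r2', h.r3, h.r3', a1, a2, a3, a4, b1, b2, b3, b4]
  rw [← e] at c
  have : 2 * (2 * ((Y - X) * (Y' - X) * a - a * ((Y - X) * (Y' - X)))) = 0 := by
    linear_combination (norm := ncr) c
  exact sub_eq_zero.mp (h2.mul_right_eq_zero.mp (h2.mul_right_eq_zero.mp this))

end Cfsg.Agent.H2.QuatAlg
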