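import Mathlib
import Cfsg.Agent.H2.QuatAlg

set_option autoImplicit false

/-! The binary icosahedral group is `SL(2,5)`: an explicit homomorphism. -/

namespace Cfsg.Agent.H2.Icosian

open Cfsg.Agent.H2.QuatAlg
open scoped MatrixGroups

/-- elements of `ℤ[φ]` -/
abbrev P := ℤ × ℤ
/-- product in `ℤ[φ]` -/
def pm (p q : P) : P := (p.1 * q.1 + p.2 * q.2, p.1 * q.2 + p.2 * q.1 + p.2 * q.2)
/-- quaternions over `ℤ[φ]` -/
abbrev Q := P × P × P × P
/-- quaternion product -/
def qm (x y : Q) : Q :=
  (pm x.1 y.1 - pm x.2.1 y.2.1 - pm x.2.2.1 y.2.2.1 - pm x.2.2.2 y.2.2.2,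
   pm x.1 y.2.1 + pm x.2.1 y.1 + pm x.2.2.1 y.2.2.2 - pm x.2.2.2 y.2.2.1,
   pm x.1 y.2.2.1 - pm x.2.1 y.2.2.2 + pm x.2.2.1 y.1 + pm x.2.2.2 y.2.1,
   pm x.1 y.2.2.2 + pm x.2.1 y.2.2.1 - pm x.2.2.1 y.2.1 + pm x.2.2.2 y.1)

section ring
variable {R : Type*} [Ring R]

/-- evaluation of `ℤ[φ]` -/
def pe (φ : R) (p : P) : R := p.1 • (1 : R) + p.2 • φ

theorem pe_add (φ : R) (p q : P) : pe φ (p + q) = pe φ p + pe φ q := by
  simp only [pe, Prod.fst_add, Prod.snd_add]; module
theorem pe_sub (φ : R) (p q : P) : pe φ (p - q) = pe φ p - pe φ q := by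
  simp only [pe, Prod.fst_sub, Prod.snd_sub]; module
theorem pe_pm {φ : R} (h : φ * φ = φ + 1) (p q : P) : pe φ (pm p q) = pe φ p * pe φ q := by
  simp only [pe, pm, mul_add, add_mul, smul_mul_assoc, mul_smul_comm, mul_one, one_mul, h]; module
theorem pe_commute {φ x : R} (h : Commute φ x) (p : P) : Commute (pe φ p) x :=
  ((Commute.one_left x).smul_left _).add_left (h.smul_left _)

/-- evaluation of quaternions -/
def ev (a X φ : R) (x : Q) : R :=
  pe φ x.1 + pe φ x.2.1 * X + pe φ x.2.2.1 * J a X + pe φ x.2.2.2 * K a X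

theorem ev_qm {a X Y φ : R} (g : Gold a X Y φ) (x y : Q) :
    ev a X φ (qm x y) = ev a X φ x * ev a X φ y := by
  have h := g.pX
  have e : ∀ {c d P Q : R}, Commute d P → c * P * (d * Q) = c * d * (P * Q) := by
    intro c d P Q hd
    rw [mul_assoc, ← mul_assoc P, ← hd.eq, mul_assoc, mul_assoc]
  have e' : ∀ {c d P : R}, Commute d P → c * P * d = c * d * P := by
    intro c d P hd
    rw [mul_assoc, ← hd.eq, mul_assoc]
  have cX := fun p => pe_commute g.φX p
  have cJ := fun p => pe_commute (commute_J g.φa g.φX) p
  have cK := fun p => pe_commute (commute_K g.φa g.φX) p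
  simp only [ev, qm, pe_add, pe_sub, pe_pm g.φφ, mul_add, add_mul, sub_mul]
  simp only [e (cX _), e (cJ _), e (cK _), e' (cX _), e' (cJ _), e' (cK _), h.xx, h.pJ.xx, h.pK.xx,
    h.mIJ, h.mJI, h.mJK, h.mKJ, h.mKI, h.mIK]
  noncomm_ring

theorem ev_add (a X φ : R) (x y : Q) : ev a X φ (x + y) = ev a X φ x + ev a X φ y := by
  simp only [ev, Prod.fst_add, Prod.snd_add, pe_add]; noncomm_ring

end ring

/-- entries of a matrix -/
abbrev T4 := ZMod 5 × ZMod 5 × ZMod 5 × ZMod 5
/-- matrix product on entries -/
def mulT (x y : T4) : T4 :=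
  (x.1 * y.1 + x.2.1 * y.2.2.1, x.1 * y.2.1 + x.2.1 * y.2.2.2,
   x.2.2.1 * y.1 + x.2.2.2 * y.2.2.1, x.2.2.1 * y.2.1 + x.2.2.2 * y.2.2.2)
/-- powers -/
def powT (x : T4) : ℕ → T4
  | 0 => (1, 0, 0, 1)
  | n + 1 => mulT (powT x n) x
/-- index -/
def idx (x : T4) : ℕ := 125 * x.1.val + 25 * x.2.1.val + 5 * x.2.2.1.val + x.2.2.2.val
/-- table of icosians -/
def tabT : ℕ := 0x4526990000000000000000000000000000004d34d300000000000000000000000000000069945200000000000000000000000000000048b29129148b0000000000000000000000000000000000004d14d30000000000000000000000000000000000006926510000004932ca00000000000000000000000000000000000029945200000044b49a00000000000000000000000000000000000000000068b4520000000000004912ca0000000000000000000000000000000000000000002926510000000000004534d30000000000004d949a00000000000000000000000000000000000000000000000049929100000000000000000028b4520000000000000000004514d30000000000000000004d269900000000000000000069348b00000000000000000000000029348b00000000000000000000000045949a0000000000000000000000004cb49a0000000000000000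0000000069148b0000000000000000000000004924900000000000000000000000004522990000000000000000000000000000000000000000004d34d10000000000002ca49300000000000000000000000000000000000000000049a44b0000000000006516920000000000000000000000000000004d14d10000000000000000000000000000002d245a49364a00000000000000000000000000000064a49300000000000000000000000000000045a2d20000000000000000002da49300000000000000000049164a00000000000000000000000000000000000000000000000065245a0000000000000000004534d10000000000000000004ca2d200000000000000000000000000000000000048a44b00000065a4930000000000000000000000000000000000004514d10000004d22990000000000000000000000000000000000002d369200000000000000000000000065369200000000000000000000000044a2d20000000000000000000000004da2d20000000000000000000000002d169200000000000000000000000049241200000000000000000000000000000045268b0000004d34530000000000000000000000000000000000002ca49100000000000000000000000000000000000049a4d90000006512920000000000000000004d14530000000000000000000000000000000000000000000000002d24ca0000000000000000004932da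00000000000000000064a49100000000000000000045a6520000000000000000000000000000002da4910000000000000000000000000000004912da0000000000000000000000000000006524ca4534530000000000000000000000000000004ca65200000000000000000000000000000000000000000048a4d900000000000065a4910000000000004514530000000000000000000000000000000000000000004d268b0000000000002d329200000000000000000000000065329200000000000000000000000044a6520000000000000000000000004da6520000000000000000000000002d129200000000000000000000000049251200000000000000000000000000000045228b0000000000000000004d34510000000000000000006994d200000000000000000000000000000000000000000000000048b6930000000000000000002914990000000000004d14510000000000000000000000000000000000000000006922d300000000000049365a0000000000002994d200000000000000000000000000000000000000000044b48a00000068b4d200000000000000000000000000000000000049165a0000000000000000000000000000000000002922d30000004534510000000000000000000000000000000000004d948a00000000000000000000000000000049969328b4d200000000000000000000000000000045145100000000000000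00000000000000004d228b00000000000000000000000000000069349900000000000000000000000029349900000000000000000000000045948a0000000000000000000000004cb48a00000000000000000000000069149900000000000000000000000049249400000000000000000000000000000000000000000000000000000000000000000000000000000000000000000000000048b69149a4cb49a45948b2934904920000000000000000000000000000000000000000000000000000000000006922d12d24da2d244a6926534124920000000000000000000000000000000000000000000000000000000000000000000000000000000000000000000000000000000000000000000000000000000000000000000000000000002922d16524da65244a29265351249200000000000000000000000000000000000000000000000000000000000049969148a4cb48a459499293494492000000000000000000000000000000000000000000000000000000000000000000000000000000000000000000000000000000000000000000000000000000000000000000000000000000000000000000000000000000000000000000000000000000000000000000000000000000000000000000000000000000000000000000000000000000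
/-- table of depths -/
def tabD : ℕ := 0x500000400000600000530000004000000505000000306000000030050000000200400600000000200060003000500040000600003000040000600002000060000000100400000003006000004000003500000300000400030006000000003000400040000003040000005050000004000040000600004000040000300000603000000200000050500030000000050004000500060000050000060000053000004000000050020030000000400600004000050000600006000010000060005000400000000400050020000000400600300000005010000006000000402000000500000440000020000060000050000500005000050000500000000000000000000044545000000000044545000000000000000000000000054534000000000054534000000000000000000000000000000000000000000000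
/-- decode one coefficient -/
def dec (c i : ℕ) : ℤ := (((c >>> (3 * i)) % 8 : ℕ) : ℤ) - 2
/-- decode an icosian -/
def decQ (c : ℕ) : Q := ((dec c 0, dec c 1), (dec c 2, dec c 3), (dec c 4, dec c 5), (dec c 6, dec c 7))
/-- the icosian (times two) of a matrix -/
def T (x : T4) : Q := decQ ((tabT >>> (24 * idx x)) % 2 ^ 24)
/-- the depth of a matrix -/
def D (x : T4) : ℕ := (tabD >>> (4 * idx x)) % 16

instance instDecEqP : DecidableEq P := inferInstanceAs (DecidableEq (ℤ × ℤ))
instance instDecEqQ : DecidableEq Q := inferInstanceAs (DecidableEq (P × P × P × P))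

theorem chk_mul : ∀ a b c d : ZMod 5, a * d - b * c = 1 →
    qm (T (a, b, c, d)) (T (3, 4, 3, 1)) = T (mulT (a, b, c, d) (3, 4, 3, 1)) +
      T (mulT (a, b, c, d) (3, 4, 3, 1)) ∧
    qm (T (a, b, c, d)) (T (2, 0, 0, 3)) = T (mulT (a, b, c, d) (2, 0, 0, 3)) +
      T (mulT (a, b, c, d) (2, 0, 0, 3)) ∧
    qm (T (a, b, c, d)) (T (1, 2, 4, 4)) = T (mulT (a, b, c, d) (1, 2, 4, 4)) +
      T (mulT (a, b, c, d) (1, 2, 4, 4)) := by
  decide +kernel

theorem chk_gen : ∀ a b c d : ZMod 5, a * d - b * c = 1 → (a, b, c, d) = (1, 0, 0, 1) ∨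
    D (mulT (a, b, c, d) (1, 1, 2, 3)) < D (a, b, c, d) ∨
    D (mulT (a, b, c, d) (3, 0, 0, 2)) < D (a, b, c, d) ∨
    D (mulT (a, b, c, d) (4, 3, 1, 1)) < D (a, b, c, d) := by
  decide +kernel

/-- some power is `-1` -/
def hitsNeg (x : T4) : Prop := powT x 15 = (4, 0, 0, 4) ∨ powT x 30 = (4, 0, 0, 4)

instance instDecHitsNeg (x : T4) : Decidable (hitsNeg x) := by unfold hitsNeg; infer_instance

theorem chk_ker : ∀ a b c d : ZMod 5, a * d - b * c = 1 → (a, b, c, d) = (1, 0, 0, 1) ∨
    hitsNeg (a, b, c, d) ∨
    hitsNeg (mulT (a, b, c, d) (mulT (mulT (3, 4, 3, 1) (a, b, c, d)) (1, 1, 2, 3))) ∨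
    hitsNeg (mulT (a, b, c, d) (mulT (mulT (2, 0, 0, 3) (a, b, c, d)) (3, 0, 0, 2))) ∨
    hitsNeg (mulT (a, b, c, d) (mulT (mulT (1, 2, 4, 4) (a, b, c, d)) (4, 3, 1, 1))) := by
  decide +kernel

theorem T_vals : T (1, 0, 0, 1) = ((2, 0), (0, 0), (0, 0), (0, 0)) ∧
    T (4, 0, 0, 4) = ((-2, 0), (0, 0), (0, 0), (0, 0)) ∧
    T (3, 4, 3, 1) = ((-1, 0), (1, 0), (1, 0), (1, 0)) ∧
    T (2, 0, 0, 3) = ((0, 0), (2, 0), (0, 0), (0, 0)) ∧
    T (1, 2, 4, 4) = ((0, 0), (1, 0), (1, -1), (0, 1)) := by
  decide +kernel

/-- entries -/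
def toT (g : SL(2, ZMod 5)) : T4 := (g 0 0, g 0 1, g 1 0, g 1 1)

theorem toT_det (g : SL(2, ZMod 5)) : g 0 0 * g 1 1 - g 0 1 * g 1 0 = 1 := by
  have := g.2
  rwa [Matrix.det_fin_two] at this

theorem toT_mul (g h : SL(2, ZMod 5)) : toT (g * h) = mulT (toT g) (toT h) := by
  simp [toT, mulT, Matrix.mul_apply, Fin.sum_univ_two]

theorem toT_one : toT 1 = (1, 0, 0, 1) := by simp [toT]

theorem toT_pow (g : SL(2, ZMod 5)) (n : ℕ) : toT (g ^ n) = powT (toT g) n := by
  induction n with
  | zero => rw [pow_zero, toT_one]; rfl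
  | succ n ih => rw [pow_succ, toT_mul, ih]; rfl

theorem toT_injective : Function.Injective toT := by
  intro g h hgh
  simp only [toT, Prod.mk.injEq] at hgh
  ext i j
  fin_cases i <;> fin_cases j <;> simp [hgh]

/-- generator of order three -/
def gA : SL(2, ZMod 5) := ⟨!![3, 4; 3, 1], by rw [Matrix.det_fin_two_of]; decide⟩
/-- generator of order four -/
def gX : SL(2, ZMod 5) := ⟨!![2, 0; 0, 3], by rw [Matrix.det_fin_two_of]; decide⟩
/-- generator of order four -/
def gY : SL(2, ZMod 5) := ⟨!![1, 2; 4, 4], by rw [Matrix.det_fin_two_of]; decide⟩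

theorem toT_gA : toT gA = (3, 4, 3, 1) := rfl
theorem toT_gX : toT gX = (2, 0, 0, 3) := rfl
theorem toT_gY : toT gY = (1, 2, 4, 4) := rfl
theorem toT_inv {g : SL(2, ZMod 5)} {x : T4} (h : mulT (toT g) x = (1, 0, 0, 1))
    (hx : x.1 * x.2.2.2 - x.2.1 * x.2.2.1 = 1) : toT g⁻¹ = x := by
  let k : SL(2, ZMod 5) := ⟨!![x.1, x.2.1; x.2.2.1, x.2.2.2], by rw [Matrix.det_fin_two_of]; exact hx⟩
  have hk : toT k = x := rfl
  rw [← hk, ← toT_mul, ← toT_one] at h
  rw [← hk, eq_inv_of_mul_eq_one_right (toT_injective h)]
theorem toT_gA' : toT gA⁻¹ = (1, 1, 2, 3) := toT_inv (by rw [toT_gA]; decide) (by decide)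
theorem toT_gX' : toT gX⁻¹ = (3, 0, 0, 2) := toT_inv (by rw [toT_gX]; decide) (by decide)
theorem toT_gY' : toT gY⁻¹ = (4, 3, 1, 1) := toT_inv (by rw [toT_gY]; decide) (by decide)

theorem induction_gens {p : SL(2, ZMod 5) → Prop} (h1 : p 1) (hA : ∀ g, p g → p (g * gA))
    (hX : ∀ g, p g → p (g * gX)) (hY : ∀ g, p g → p (g * gY)) (g : SL(2, ZMod 5)) : p g := by
  induction hn : D (toT g) using Nat.strong_induction_on generalizing g with
  | _ n ih =>
    rcases chk_gen _ _ _ _ (toT_det g) with h | h | h | h
    · rw [toT_injective (h.trans toT_one.symm)]; exact h1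
    · have := hA _ (ih _ (hn ▸ h) (g * gA⁻¹) (by rw [toT_mul, toT_gA']; rfl))
      rwa [inv_mul_cancel_right] at this
    · have := hX _ (ih _ (hn ▸ h) (g * gX⁻¹) (by rw [toT_mul, toT_gX']; rfl))
      rwa [inv_mul_cancel_right] at this
    · have := hY _ (ih _ (hn ▸ h) (g * gY⁻¹) (by rw [toT_mul, toT_gY']; rfl))
      rwa [inv_mul_cancel_right] at this

theorem normal_eq_bot (N : Subgroup SL(2, ZMod 5)) (hN : N.Normal)
    (h : ∀ g ∈ N, toT g ≠ (4, 0, 0, 4)) : N = ⊥ := by
  have key : ∀ g ∈ N, ¬ hitsNeg (toT g) := by
    rintro g hg (h1 | h1) <;> rw [← toT_pow] at h1 <;> exact h _ (pow_mem hg _) h1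
  rw [eq_bot_iff]
  intro g hg
  rcases chk_ker _ _ _ _ (toT_det g) with h | h | h | h | h
  · exact toT_injective (h.trans toT_one.symm)
  · exact absurd h (key g hg)
  · refine absurd ?_ (key _ (mul_mem hg (hN.conj_mem g hg gA)))
    rw [toT_mul, toT_mul, toT_mul, toT_gA, toT_gA']; exact h
  · refine absurd ?_ (key _ (mul_mem hg (hN.conj_mem g hg gX)))
    rw [toT_mul, toT_mul, toT_mul, toT_gX, toT_gX']; exact h
  · refine absurd ?_ (key _ (mul_mem hg (hN.conj_mem g hg gY)))
    rw [toT_mul, toT_mul, toT_mul, toT_gY, toT_gY']; exact h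

theorem exists_hom {G R : Type*} [Group G] [Ring R] [Nontrivial R] {ι : G →* R}
    (hι : Function.Injective ι) (h2 : IsUnit (2 : R)) {a X Y : G} {φ : R}
    (g : Gold (ι a) (ι X) (ι Y) φ) : ∃ θ : SL(2, ZMod 5) →* G, Function.Injective θ ∧
      θ.range = Subgroup.closure {a, X, Y} ∧ θ gA = a ∧ θ gX = X ∧ θ gY = Y ∧
      ∀ s, 2 * ι (θ s) = ev (ι a) (ι X) φ (T (toT s)) := by
  let Rel : SL(2, ZMod 5) → G → Prop := fun s x => 2 * ι x = ev (ι a) (ι X) φ (T (toT s))
  have huniq : ∀ {s x y}, Rel s x → Rel s y → x = y := fun h1 h3 =>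
    hι (h2.mul_left_cancel (h1.trans h3.symm))
  have hstep : ∀ {s t x y}, Rel s x → Rel t y →
      qm (T (toT s)) (T (toT t)) = T (toT (s * t)) + T (toT (s * t)) → Rel (s * t) (x * y) := by
    intro s t x y h1 h3 h4
    apply h2.mul_left_cancel
    have := congrArg (ev (ι a) (ι X) φ) h4
    rw [ev_qm g, ev_add, ← h1, ← h3] at this
    rw [two_mul (ev _ _ _ _), ← this, map_mul]
    noncomm_ring
  obtain ⟨v1, vn, vA, vX, vY⟩ := T_vals
  have R1 : Rel 1 1 := by
    simp only [Rel]; rw [toT_one, v1]; simp [ev, pe]
  have RA : Rel gA a := by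
    simp only [Rel]; rw [toT_gA, vA]
    simp only [ev, pe, J, K]; noncomm_ring
  have RX : Rel gX X := by
    simp only [Rel]; rw [toT_gX, vX]
    simp only [ev, pe, zero_smul]; ncr
  have RY : Rel gY Y := by
    simp only [Rel]; rw [toT_gY, vY, g.eqY]
    simp only [ev, pe, zero_smul]; ncr
  have sA : ∀ {s x}, Rel s x → Rel (s * gA) (x * a) := fun {s x} h => hstep h RA (by
    rw [toT_mul, toT_gA]; exact (chk_mul _ _ _ _ (toT_det s)).1)
  have sX : ∀ {s x}, Rel s x → Rel (s * gX) (x * X) := fun {s x} h => hstep h RX (by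
    rw [toT_mul, toT_gX]; exact (chk_mul _ _ _ _ (toT_det s)).2.1)
  have sY : ∀ {s x}, Rel s x → Rel (s * gY) (x * Y) := fun {s x} h => hstep h RY (by
    rw [toT_mul, toT_gY]; exact (chk_mul _ _ _ _ (toT_det s)).2.2)
  have good : ∀ t, ∃ y ∈ Subgroup.closure {a, X, Y}, ∀ s x, Rel s x → Rel (s * t) (x * y) := by
    apply induction_gens
    · exact ⟨1, one_mem _, fun s x h => by rwa [mul_one, mul_one]⟩
    · rintro t ⟨y, hy, h⟩
      exact ⟨y * a, mul_mem hy (Subgroup.subset_closure (by simp)), fun s x hs => by
        rw [← mul_assoc, ← mul_assoc]; exact sA (h s x hs)⟩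
    · rintro t ⟨y, hy, h⟩
      exact ⟨y * X, mul_mem hy (Subgroup.subset_closure (by simp)), fun s x hs => by
        rw [← mul_assoc, ← mul_assoc]; exact sX (h s x hs)⟩
    · rintro t ⟨y, hy, h⟩
      exact ⟨y * Y, mul_mem hy (Subgroup.subset_closure (by simp)), fun s x hs => by
        rw [← mul_assoc, ← mul_assoc]; exact sY (h s x hs)⟩
  choose θ hθ1 hθ2 using good
  have hθ : ∀ t, Rel t (θ t) := fun t => by simpa using hθ2 t 1 1 R1
  let θ' : SL(2, ZMod 5) →* G := MonoidHom.mk' θ fun s t => huniq (hθ _) (hθ2 t s _ (hθ s))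
  have eA : θ' gA = a := huniq (hθ _) RA
  have eX : θ' gX = X := huniq (hθ _) RX
  have eY : θ' gY = Y := huniq (hθ _) RY
  refine ⟨θ', ?_, ?_, eA, eX, eY, hθ⟩
  · rw [← MonoidHom.ker_eq_bot_iff]
    apply normal_eq_bot _ inferInstance
    intro s hs h4
    have h5 := hθ s
    have h6 : θ s = 1 := hs
    simp only [Rel] at h5
    rw [h4, vn, h6] at h5
    simp only [ev, pe, map_one] at h5
    have : (2 : R) * 2 = 0 := by linear_combination (norm := ncr) h5
    exact h2.ne_zero (h2.mul_right_eq_zero.mp this)
  · apply le_antisymm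
    · rintro _ ⟨s, rfl⟩; exact hθ1 s
    · rw [Subgroup.closure_le]
      rintro x (rfl | rfl | rfl)
      · exact ⟨gA, eA⟩
      · exact ⟨gX, eX⟩
      · exact ⟨gY, eY⟩

end Cfsg.Agent.H2.Icosian
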