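import Mathlib

set_option autoImplicit false

/-! Klein's counting argument: finite groups in which every non-identity element fixes exactly
two points. -/

namespace Cfsg.Agent.H2.Klein

open MulAction

theorem arith_sorted {N n1 n2 n3 o1 o2 o3 : ℕ} (h1 : o1 * n1 = N) (h2 : o2 * n2 = N)
    (h3 : o3 * n3 = N) (hn : 2 ≤ n1) (h12 : n1 ≤ n2) (h23 : n2 ≤ n3) (ho : 3 ≤ o3)
    (hs : o1 + o2 + o3 = N + 2) :
    n1 = 2 ∧ n2 = 3 ∧ ((n3 = 3 ∧ N = 12) ∨ (n3 = 4 ∧ N = 24) ∨ (n3 = 5 ∧ N = 60)) := by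
  have a1 : n1 = 2 := by
    by_contra h
    have : o1 * 3 ≤ N := h1 ▸ Nat.mul_le_mul_left _ (by omega)
    have : o2 * 3 ≤ N := h2 ▸ Nat.mul_le_mul_left _ (by omega)
    have : o3 * 3 ≤ N := h3 ▸ Nat.mul_le_mul_left _ (by omega)
    omega
  subst a1
  have a2 : n2 = 3 := by
    by_contra h
    rcases Nat.lt_or_ge n2 3 with h' | h'
    · have : n2 = 2 := by omega
      subst this
      omega
    · have : o2 * 4 ≤ N := h2 ▸ Nat.mul_le_mul_left _ (by omega)
      have : o3 * 4 ≤ N := h3 ▸ Nat.mul_le_mul_left _ (by omega)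
      omega
  subst a2
  have a3 : n3 < 6 := by
    by_contra h
    have : o3 * 6 ≤ N := h3 ▸ Nat.mul_le_mul_left _ (by omega)
    omega
  refine ⟨rfl, rfl, ?_⟩
  interval_cases n3 <;> omega

theorem arith {N n1 n2 n3 o1 o2 o3 : ℕ} (h1 : o1 * n1 = N) (h2 : o2 * n2 = N)
    (h3 : o3 * n3 = N) (hn1 : 2 ≤ n1) (hn2 : 2 ≤ n2) (hn3 : 2 ≤ n3) (ho1 : 3 ≤ o1) (ho2 : 3 ≤ o2)
    (ho3 : 3 ≤ o3) (hs : o1 + o2 + o3 = N + 2) : ∃ m, ((m = 3 ∧ N = 12) ∨ (m = 4 ∧ N = 24) ∨
      (m = 5 ∧ N = 60)) ∧ (n1 = 2 ∨ n1 = 3 ∨ n1 = m) ∧ (n2 = 2 ∨ n2 = 3 ∨ n2 = m) ∧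
      (n3 = 2 ∨ n3 = 3 ∨ n3 = m) := by
  rcases le_total n1 n2 with a | a <;> rcases le_total n2 n3 with b | b <;>
    rcases le_total n1 n3 with c | c
  · have := arith_sorted h1 h2 h3 hn1 a b ho3 hs; exact ⟨n3, by tauto⟩
  · have := arith_sorted h1 h2 h3 hn1 a b ho3 hs; exact ⟨n3, by tauto⟩
  · have := arith_sorted h1 h3 h2 hn1 c b ho2 (by omega); exact ⟨n2, by tauto⟩
  · have := arith_sorted h3 h1 h2 hn3 c a ho2 (by omega); exact ⟨n2, by tauto⟩
  · have := arith_sorted h2 h1 h3 hn2 a c ho3 (by omega); exact ⟨n3, by tauto⟩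
  · have := arith_sorted h2 h3 h1 hn2 b c ho1 (by omega); exact ⟨n1, by tauto⟩
  · have := arith_sorted h3 h2 h1 hn3 b a ho1 (by omega); exact ⟨n1, by tauto⟩
  · have := arith_sorted h3 h2 h1 hn3 b a ho1 (by omega); exact ⟨n1, by tauto⟩

variable {Γ X : Type*} [Group Γ] [MulAction Γ X]

theorem core [Finite Γ] [Finite X] [Nontrivial Γ]
    (h2 : ∀ γ : Γ, γ ≠ 1 → (fixedBy X γ).ncard = 2) (hst : ∀ x : X, stabilizer Γ x ≠ ⊥) :
    (∃ x : X, (stabilizer Γ x).index ≤ 2) ∨ ∃ m, ((m = 3 ∧ Nat.card Γ = 12) ∨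
      (m = 4 ∧ Nat.card Γ = 24) ∨ (m = 5 ∧ Nat.card Γ = 60)) ∧ ∀ x : X,
      Nat.card (stabilizer Γ x) = 2 ∨ Nat.card (stabilizer Γ x) = 3 ∨
        Nat.card (stabilizer Γ x) = m := by
  classical
  by_cases hidx : ∃ x : X, (stabilizer Γ x).index ≤ 2
  · exact Or.inl hidx
  right
  push Not at hidx
  have := Fintype.ofFinite Γ
  have := Fintype.ofFinite X
  have : Fintype (orbitRel.Quotient Γ X) := Fintype.ofFinite _
  have hB := sum_card_fixedBy_eq_card_orbits_mul_card_group Γ X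
  rw [← Finset.add_sum_erase _ _ (Finset.mem_univ 1),
    Finset.sum_congr rfl (g := fun _ => 2) (fun γ hγ => by
      rw [← h2 γ (Finset.mem_erase.mp hγ).1, ← Nat.card_eq_fintype_card, Nat.card_coe_set_eq]),
    Finset.sum_const, Finset.card_erase_of_mem (Finset.mem_univ _), Finset.card_univ] at hB
  have h1 : Fintype.card (fixedBy X (1 : Γ)) = Fintype.card X := by simp
  rw [h1, smul_eq_mul] at hB
  have hX : Fintype.card X = ∑ ω : orbitRel.Quotient Γ X, (stabilizer Γ ω.out).index := by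
    rw [Fintype.card_congr (selfEquivSigmaOrbits Γ X), Fintype.card_sigma]
    refine Finset.sum_congr rfl fun ω _ => ?_
    rw [index_stabilizer, ← Nat.card_eq_fintype_card, Nat.card_coe_set_eq]
  have hN : 1 < Fintype.card Γ := Fintype.one_lt_card
  have hon : ∀ x : X, (stabilizer Γ x).index * Nat.card (stabilizer Γ x) = Fintype.card Γ :=
    fun x => by rw [Subgroup.index_mul_card, Nat.card_eq_fintype_card]
  have hn2 : ∀ x : X, 2 ≤ Nat.card (stabilizer Γ x) := fun x =>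
    (Subgroup.one_lt_card_iff_ne_bot _).mpr (hst x)
  have hle : 2 * Fintype.card X ≤ Fintype.card (orbitRel.Quotient Γ X) * Fintype.card Γ := by
    rw [hX, Finset.mul_sum, ← Finset.card_univ, ← smul_eq_mul, ← Finset.sum_const]
    refine Finset.sum_le_sum fun ω _ => ?_
    rw [← hon ω.out, mul_comm]
    exact Nat.mul_le_mul_left _ (hn2 _)
  have hge : 3 * Fintype.card (orbitRel.Quotient Γ X) ≤ Fintype.card X := by
    rw [hX, mul_comm, ← Finset.card_univ, ← smul_eq_mul, ← Finset.sum_const]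
    exact Finset.sum_le_sum fun ω _ => hidx _
  set k := Fintype.card (orbitRel.Quotient Γ X) with hk
  have hk3 : k = 3 := by
    have h4 : k < 4 := by
      by_contra h
      have : 4 * Fintype.card Γ ≤ k * Fintype.card Γ := Nat.mul_le_mul_right _ (by omega)
      omega
    obtain ⟨γ, hγ⟩ := exists_ne (1 : Γ)
    have : 2 ≤ Fintype.card X := by
      rw [← h2 γ hγ, ← Nat.card_eq_fintype_card, ← Set.ncard_univ]
      exact Set.ncard_le_ncard (Set.subset_univ _)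
    interval_cases k <;> omega
  obtain ⟨a, b, c, hab, hac, hbc, habc⟩ := Finset.card_eq_three.mp (Finset.card_univ.trans hk3 :
    (Finset.univ : Finset (orbitRel.Quotient Γ X)).card = 3)
  rw [habc, Finset.sum_insert (by simp [hab, hac]), Finset.sum_pair hbc] at hX
  obtain ⟨m, hm, ha, hb, hc⟩ := arith (hon a.out) (hon b.out) (hon c.out) (hn2 _) (hn2 _) (hn2 _)
    (hidx _) (hidx _) (hidx _) (by rw [hk3] at hB; omega)
  refine ⟨m, by rwa [Nat.card_eq_fintype_card], fun x => ?_⟩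
  have hx : ∀ ω : orbitRel.Quotient Γ X, Quotient.mk'' x = ω →
      Nat.card (stabilizer Γ x) = Nat.card (stabilizer Γ ω.out) := by
    intro ω hω
    have : orbitRel Γ X x ω.out := Quotient.exact (hω.trans ω.out_eq.symm)
    exact Nat.card_congr (stabilizerEquivStabilizerOfOrbitRel this).toEquiv
  have : (Quotient.mk'' x : orbitRel.Quotient Γ X) ∈ ({a, b, c} : Finset _) := by
    rw [← habc]; exact Finset.mem_univ _
  simp only [Finset.mem_insert, Finset.mem_singleton] at this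
  rcases this with h | h | h <;> rw [hx _ h] <;> assumption

theorem faithful [Finite Γ] [Nontrivial Γ] (h2 : ∀ γ : Γ, γ ≠ 1 → (fixedBy X γ).ncard = 2) :
    (∃ x : X, (stabilizer Γ x).index ≤ 2) ∨ ∃ m, ((m = 3 ∧ Nat.card Γ = 12) ∨
      (m = 4 ∧ Nat.card Γ = 24) ∨ (m = 5 ∧ Nat.card Γ = 60)) ∧
      ∀ γ : Γ, γ ^ 2 = 1 ∨ γ ^ 3 = 1 ∨ γ ^ m = 1 := by
  let Y : SubMulAction Γ X :=
    { carrier := {x | ∃ γ : Γ, γ ≠ 1 ∧ γ • x = x}
      smul_mem' := by
        rintro g x ⟨γ, h1, h2⟩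
        exact ⟨g * γ * g⁻¹, by simpa using h1, by rw [mul_smul, inv_smul_smul, mul_smul, h2]⟩ }
  have hfin : (Y : Set X).Finite := by
    refine Set.Finite.subset (Set.Finite.biUnion (Set.toFinite {γ : Γ | γ ≠ 1})
      (t := fun γ => fixedBy X γ) fun γ hγ => Set.finite_of_ncard_ne_zero (by rw [h2 γ hγ]; omega)) ?_
    rintro x ⟨γ, h1, h2⟩
    exact Set.mem_biUnion h1 h2
  have : Finite Y := hfin
  have hstab : ∀ y : Y, stabilizer Γ y = stabilizer Γ (y : X) := fun y => by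
    ext g; simp [mem_stabilizer_iff, Subtype.ext_iff]
  have himg : ∀ γ : Γ, γ ≠ 1 → Subtype.val '' (fixedBy Y γ) = fixedBy X γ := by
    intro γ hγ
    ext x
    constructor
    · rintro ⟨y, hy, rfl⟩
      exact congrArg Subtype.val hy
    · intro hx
      exact ⟨⟨x, γ, hγ, hx⟩, Subtype.ext hx, rfl⟩
  rcases core (Γ := Γ) (X := Y) (fun γ hγ => by
    rw [← h2 γ hγ, ← himg γ hγ, Set.ncard_image_of_injective _ Subtype.val_injective])
    (fun y h => by
      obtain ⟨γ, h1, h2⟩ := y.2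
      rw [hstab] at h
      exact h1 (Subgroup.mem_bot.mp (h ▸ h2))) with ⟨y, hy⟩ | ⟨m, hm, h⟩
  · exact Or.inl ⟨y, hstab y ▸ hy⟩
  · refine Or.inr ⟨m, hm, fun γ => ?_⟩
    by_cases hγ : γ = 1
    · simp [hγ]
    obtain ⟨x, hx⟩ := Set.nonempty_of_ncard_ne_zero (s := fixedBy X γ) (by rw [h2 γ hγ]; omega)
    have h1 := h ⟨x, γ, hγ, hx⟩
    rw [hstab] at h1
    have h3 : γ ^ Nat.card (stabilizer Γ x) = 1 :=
      congrArg Subtype.val (pow_card_eq_one' (x := (⟨γ, hx⟩ : stabilizer Γ x)))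
    rcases h1 with h1 | h1 | h1 <;> rw [h1] at h3 <;> tauto

/-- Version with a kernel. -/
theorem main [Finite Γ] (h2 : ∀ γ : Γ, (∀ x : X, γ • x = x) ∨ (fixedBy X γ).ncard = 2) :
    (∃ x : X, ∀ γ : Γ, γ ^ 2 • x = x) ∨ ∃ m, (m = 3 ∨ m = 4 ∨ m = 5) ∧
      ∀ γ : Γ, (∀ x : X, γ ^ 2 • x = x) ∨ (∀ x : X, γ ^ 3 • x = x) ∨ (∀ x : X, γ ^ m • x = x) := by
  let f := toPermHom Γ X
  have : Finite f.range := Finite.of_surjective _ f.rangeRestrict_surjective
  have hsm : ∀ (γ : Γ) (x : X), f.rangeRestrict γ • x = γ • x := fun _ _ => rfl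
  rcases subsingleton_or_nontrivial f.range with h | h
  · exact Or.inr ⟨3, Or.inl rfl, fun γ => Or.inl fun x => by
      rw [← hsm, Subsingleton.elim (f.rangeRestrict (γ ^ 2)) 1, one_smul]⟩
  rcases faithful (Γ := f.range) (X := X) (fun σ hσ => by
    obtain ⟨γ, rfl⟩ := f.rangeRestrict_surjective σ
    rcases h2 γ with h | h
    · exact absurd (Subtype.ext (Equiv.ext h)) hσ
    · exact h) with ⟨x, hx⟩ | ⟨m, hm, h⟩
  · refine Or.inl ⟨x, fun γ => ?_⟩
    rw [← hsm, map_pow]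
    have h0 : (stabilizer f.range x).index ≠ 0 := Subgroup.index_ne_zero_of_finite
    have : (stabilizer f.range x).index = 1 ∨ (stabilizer f.range x).index = 2 := by omega
    rcases this with h1 | h1
    · rw [Subgroup.index_eq_one] at h1
      exact (h1 ▸ Subgroup.mem_top _ : _ ∈ stabilizer f.range x)
    · exact Subgroup.sq_mem_of_index_two h1 _
  · refine Or.inr ⟨m, by omega, fun γ => ?_⟩
    rcases h (f.rangeRestrict γ) with h | h | h
    · exact Or.inl fun x => by rw [← hsm, map_pow, h, one_smul]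
    · exact Or.inr (Or.inl fun x => by rw [← hsm, map_pow, h, one_smul])
    · exact Or.inr (Or.inr fun x => by rw [← hsm, map_pow, h, one_smul])

end Cfsg.Agent.H2.Klein
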