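import Cfsg.Prelude.Def_GeometricClasses
import Cfsg.Agent.MH.Out
import Cfsg.Agent.MH.Grp

/-!
Interface definitions for the classification of the simple irreducible subgroups of `PSp₄` in odd characteristic.
-/

set_option autoImplicit false

namespace Cfsg.Agent.H2.Mi

open Module Cfsg.Agent.MH

abbrev I4 := Fin 2 ⊕ Fin 2

/-- the core conditions on the perfect group `P ≤ Sp₄(F)` -/
structure Core {F : Type*} [Field F] (P : Subgroup (GL I4 F)) : Prop where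
  two : (2 : F) ≠ 0
  le : P ≤ spGL 2 F
  perfect : ⁅P, P⁆ = P
  simple : IsSimpleGroup (P ⧸ (Geo.scalars I4 F).subgroupOf P)
  nonabelian : ¬ IsMulCommutative (P ⧸ (Geo.scalars I4 F).subgroupOf P)
  absIrred : Geo.ActsAbsolutelyIrreducibly (Geo.matrixSet P)
  no_subfield : ∀ F₀ : Subfield F, F₀ ≠ ⊤ → ¬ Geo.RealisableOver F₀ (Geo.matrixSet P)

/-- `P` modulo scalars -/
abbrev PQ {F : Type*} [Field F] (P : Subgroup (GL I4 F)) := P ⧸ (Geo.scalars I4 F).subgroupOf P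

section V

variable (G : Type*) {K V : Type*} [Group G] [Field K] [AddCommGroup V] [Module K V] [DistribMulAction G V]

/-- a simple group acting faithfully and irreducibly on a five-dimensional orthogonal space -/
structure OV (B : V →ₗ[K] V →ₗ[K] K) : Prop where
  two : (2 : K) ≠ 0
  five : finrank K V = 5
  symm : ∀ x y, B x y = B y x
  nd : ∀ x, (∀ y, B x y = 0) → x = 0
  iso : ∀ (g : G) x y, B (g • x) (g • y) = B x y
  faith : ∀ g : G, (∀ v : V, g • v = v) → g = 1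
  irr : ∀ U : Submodule K V, (∀ g : G, ∀ v ∈ U, g • v ∈ U) → U = ⊥ ∨ U = ⊤
  simple : IsSimpleGroup G
  perf : commutator G = ⊤

variable {G}

/-- the fixed space -/
def Fx (K V : Type*) [Field K] [AddCommGroup V] [Module K V] [DistribMulAction G V] [SMulCommClass G K V]
    (g : G) : Submodule K V where
  carrier := {v | g • v = v}
  add_mem' := fun {a b} (ha : g • a = a) (hb : g • b = b) => show g • (a + b) = a + b by rw [smul_add, ha, hb]
  zero_mem' := smul_zero g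
  smul_mem' := fun c {a} (ha : g • a = a) => show g • (c • a) = c • a by rw [smul_comm, ha]

theorem mem_Fx [SMulCommClass G K V] {g : G} {v : V} : v ∈ Fx K V g ↔ g • v = v := Iff.rfl

/-- rotations: elements fixing a three-space pointwise -/
def Rot (K V : Type*) [Field K] [AddCommGroup V] [Module K V] [DistribMulAction G V] [SMulCommClass G K V]
    (g : G) : Prop := 3 ≤ finrank K (Fx K V g)

/-- `t` is minus the reflection in the unit vector `x` -/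
def Root (B : V →ₗ[K] V →ₗ[K] K) (x : V) (t : G) : Prop := B x x = 1 ∧ ∀ v, t • v = (2 * B v x) • x - v

variable (G) in
/-- the local facts available when there are no big groups of quadratic unipotent elements -/
structure HA [SMulCommClass G K V] (B : V →ₗ[K] V →ₗ[K] K) : Prop extends OV G B where
  three : (3 : K) = 0 → ¬ 9 ∣ Nat.card G
  long : ∀ g : G, (∀ v : V, g • g • v + v = (2 : K) • g • v) → g = 1
  inv : ∀ t : G, Inv t → (∃ x, Root B x t) ∨ finrank K (Fx K V t) = 3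
  gram : ∀ a b (s t : G), Root B a s → Root B b t → s ≠ t → (2 * B a b) ^ 2 = 0 ∨ (2 * B a b) ^ 2 = 1 ∨
    (2 * B a b) ^ 2 = 2 ∨ (((2 * B a b) ^ 2) ^ 2 - 3 * (2 * B a b) ^ 2 + 1 = 0 ∧ (2 * B a b) ^ 2 ≠ 4)
  rot_le : ∀ g : G, Rot K V g → orderOf g ≤ 5
  rot_ss : ∀ g : G, Rot K V g → (orderOf g : K) = 0 → (3 : K) = 0
  rot_four : ∀ g : G, Rot K V g → orderOf g = 4 → ∃ (v : V) (t k k' : G), Root B v t ∧ k • v = v ∧ k' • v = v ∧
    k * k = t ∧ k' * k' = t ∧ (k⁻¹ * k') * (k⁻¹ * k') = t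
  oa : ∀ x : G, (orderOf x).Prime → ∀ Y ≤ Cn x, Odd (Nat.card Y) → ∀ a ∈ Y, ∀ b ∈ Y, a * b = b * a
  six : (∀ x (t : G), ¬ Root B x t) → ∀ (y : V) (a b : G), B y y ≠ 0 → a • y = y → b • y = y → Rot K V a →
    Rot K V b → Odd (orderOf a) → Odd (orderOf b) → a * b ≠ b * a → ∀ x ∈ Subgroup.closure {a, b}, orderOf x ≤ 5

/-- the differences of the `β i` form a root system of type `A` -/
def RS (B : V →ₗ[K] V →ₗ[K] K) {n : ℕ} (β : Fin n → V) (α : K) : Prop :=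
  α ≠ 0 ∧ ∀ i j k l, B (β i - β j) (β k - β l) = α * ((if i = k then 1 else 0) - (if i = l then 1 else 0) -
    (if j = k then 1 else 0) + (if j = l then 1 else 0))

end V

/-- not a `p`-element -/
def NP {G : Type*} [Group G] (p : ℕ) (x : G) : Prop := ∀ k : ℕ, x ^ p ^ k ≠ 1

/-- group theoretic local facts -/
structure GB (G : Type*) [Group G] (p : ℕ) : Prop where
  prime : p.Prime
  odd : p ≠ 2
  simple : IsSimpleGroup G
  perf : commutator G = ⊤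
  three : p = 3 → ¬ 9 ∣ Nat.card G
  oa : ∀ x : G, (orderOf x).Prime → ∀ Y ≤ Cn x, Odd (Nat.card Y) → ∀ a ∈ Y, ∀ b ∈ Y, a * b = b * a
  w4 : ∀ A : Subgroup G, CA A → Odd (Nat.card A) → (∃ x ∈ A, NP p x) → Nat.card (Nm A) ∣ 4 * Nat.card A
  tri : ∀ z₀ z₁ x₀ x₁ x₂ : G, Odd (orderOf x₀) → Odd (orderOf x₁) → Odd (orderOf x₂) →
    NP p x₀ → NP p x₁ → NP p x₂ → x₀ * x₁ = x₁ * x₀ → x₀ * x₂ = x₂ * x₀ → x₁ * x₂ = x₂ * x₁ →
    z₀ * x₀ * z₀⁻¹ = x₀ → z₀ * x₁ * z₀⁻¹ = x₁⁻¹ → z₀ * x₂ * z₀⁻¹ = x₂⁻¹ →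
    z₁ * x₀ * z₁⁻¹ = x₀⁻¹ → z₁ * x₁ * z₁⁻¹ = x₁ → z₁ * x₂ * z₁⁻¹ = x₂⁻¹ → False
  reg : 5 ≤ p → ∀ u : G, orderOf u = p → (∀ y ∈ Cn u, y ^ p = 1) ∧
    (∃ h ∈ Nm (Cn u), p.Coprime (orderOf h) ∧ Nat.card (Nm (Cn u)) = Nat.card (Cn u) * orderOf h ∧
      ∀ g ∈ Nm (Cn u), ∃ s ∈ Cn u, ∃ i : ℕ, g = s * h ^ i) ∧
    ∀ h ∈ Nm (Cn u), p.Coprime (orderOf h) → 5 ≤ orderOf h → Cn h ≤ Nm (Cn u) ∧
      (Odd (orderOf h) → ∀ g, ∀ j : ℕ, g * h * g⁻¹ = h ^ j → h ^ j = h ∨ h ^ j = h⁻¹ ∨ orderOf h = 5)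

/-- one class of involutions, with generalised dihedral centraliser -/
structure GD {G : Type*} [Group G] (t : G) (M : Subgroup G) : Prop where
  inv : Inv t
  mem : t ∈ M
  le : M ≤ Cn t
  card : Nat.card (Cn t) = 2 * Nat.card M
  out : ∀ g ∈ Cn t, g ∉ M → Inv g
  uniq : ∀ s ∈ M, Inv s → s = t
  cls : ∀ s : G, Inv s → ∃ g, g * s * g⁻¹ = t

/-- the Zassenhaus case -/
def ZC (G : Type*) [Group G] (p : ℕ) : Prop :=
  5 ≤ p ∧ ∃ u : G, ∃ w : ℕ, orderOf u = p ∧ 3 ≤ w ∧ CA (Cn u) ∧ Nat.card (Cn u) = 2 * w + 1 ∧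
    Nat.card (Nm (Cn u)) = (2 * w + 1) * w ∧ Nat.card G = (2 * w + 1) * w * (2 * w + 2)

end Cfsg.Agent.H2.Mi
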