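import Mathlib

set_option autoImplicit false

/-! A commutative set of endomorphisms normalised by a linear group that is transitive on non-zero
vectors (or irreducible and primitive) consists of `0` and injective maps. -/

namespace Cfsg.Agent.H2.NormalField

variable {F V G : Type*} [Field F] [AddCommGroup V] [Module F V] [Group G]

theorem rho_inv_apply (ρ : G →* Module.End F V) (g : G) (v : V) : ρ g⁻¹ (ρ g v) = v := by
  rw [← Module.End.mul_apply, ← map_mul, inv_mul_cancel, map_one]; rfl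

theorem rho_apply_inv (ρ : G →* Module.End F V) (g : G) (v : V) : ρ g (ρ g⁻¹ v) = v := by
  rw [← Module.End.mul_apply, ← map_mul, mul_inv_cancel, map_one]; rfl

theorem rho_injective (ρ : G →* Module.End F V) (g : G) : Function.Injective (ρ g) :=
  Function.LeftInverse.injective (rho_inv_apply ρ g)

theorem ncard_ann_le (ρ : G →* Module.End F V) [Finite (Module.End F V)] (B : Set (Module.End F V))
    (hnorm : ∀ g : G, ∀ b ∈ B, ρ g * b * ρ g⁻¹ ∈ B) (g : G) (v : V) :
    {b | b ∈ B ∧ b v = 0}.ncard ≤ {b | b ∈ B ∧ b (ρ g v) = 0}.ncard := by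
  apply Set.ncard_le_ncard_of_injOn (fun b => ρ g * b * ρ g⁻¹)
  · rintro b ⟨hb, hbv⟩
    refine ⟨hnorm g b hb, ?_⟩
    rw [Module.End.mul_apply, Module.End.mul_apply, rho_inv_apply, hbv, map_zero]
  · intro a _ b _ hab
    ext w
    have := congrArg (fun f : Module.End F V => f (ρ g w)) hab
    simp only [Module.End.mul_apply, rho_inv_apply] at this
    exact rho_injective ρ g this

theorem ncard_ann_eq (ρ : G →* Module.End F V) [Finite (Module.End F V)] (B : Set (Module.End F V))
    (hnorm : ∀ g : G, ∀ b ∈ B, ρ g * b * ρ g⁻¹ ∈ B) (g : G) (v : V) :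
    {b | b ∈ B ∧ b (ρ g v) = 0}.ncard = {b | b ∈ B ∧ b v = 0}.ncard := by
  apply le_antisymm _ (ncard_ann_le ρ B hnorm g v)
  have := ncard_ann_le ρ B hnorm g⁻¹ (ρ g v)
  rwa [rho_inv_apply] at this

/-- transitive case -/
theorem injective_of_transitive (ρ : G →* Module.End F V) [Finite V] (B : Set (Module.End F V))
    (hcomm : ∀ x ∈ B, ∀ y ∈ B, x * y = y * x)
    (hnorm : ∀ g : G, ∀ b ∈ B, ρ g * b * ρ g⁻¹ ∈ B)
    (htrans : ∀ v w : V, v ≠ 0 → w ≠ 0 → ∃ g : G, ρ g v = w) :
    ∀ b ∈ B, ∀ v : V, b v = 0 → b = 0 ∨ v = 0 := by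
  have : Finite (Module.End F V) := DFunLike.finite _
  let I : V → Set (Module.End F V) := fun v => {b | b ∈ B ∧ b v = 0}
  have hcard : ∀ v w : V, v ≠ 0 → w ≠ 0 → I v ⊆ I w → I v = I w := by
    intro v w hv hw h
    obtain ⟨g, rfl⟩ := htrans v w hv hw
    exact Set.eq_of_subset_of_ncard_le h (ncard_ann_eq ρ B hnorm g v).le
  have key : ∀ v w : V, v ≠ 0 → v + w ≠ 0 → I v ⊆ I (v + w) → I v ⊆ I w := by
    intro v w hv hvw h a ha
    refine ⟨ha.1, ?_⟩
    have := (h ha).2
    rwa [map_add, ha.2, zero_add] at this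
  have hall : ∀ v w : V, v ≠ 0 → w ≠ 0 → I v ⊆ I w := by
    intro v w hv hw
    by_cases hvw : v + w = 0
    · intro a ha
      refine ⟨ha.1, ?_⟩
      rw [eq_neg_of_add_eq_zero_right hvw, map_neg, ha.2, neg_zero]
    by_cases h1 : I v ⊆ I (v + w)
    · exact key v w hv hvw h1
    by_cases h2 : I w ⊆ I (w + v)
    · exact (hcard w v hw hv (key w v hw (by rwa [add_comm]) h2)).ge
    exfalso
    obtain ⟨a, ha, ha'⟩ := Set.not_subset.mp h1
    obtain ⟨b, hb, hb'⟩ := Set.not_subset.mp h2
    rw [add_comm] at hb'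
    have hb0 : b (v + w) ≠ 0 := fun h => hb' ⟨hb.1, h⟩
    have h3 : I (v + w) = I (b (v + w)) := by
      apply hcard _ _ hvw hb0
      intro c hc
      refine ⟨hc.1, ?_⟩
      rw [← Module.End.mul_apply, hcomm c hc.1 b hb.1, Module.End.mul_apply, hc.2, map_zero]
    apply ha'
    rw [h3]
    refine ⟨ha.1, ?_⟩
    rw [map_add, hb.2, add_zero, ← Module.End.mul_apply, hcomm a ha.1 b hb.1, Module.End.mul_apply,
      ha.2, map_zero]
  intro b hb v hbv
  by_cases hv : v = 0
  · exact Or.inr hv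
  left
  ext w
  by_cases hw : w = 0
  · simp [hw]
  exact (hall v w hv hw ⟨hb, hbv⟩).2

/-- irreducible case: a system of imprimitivity, or all non-zero members are injective -/
theorem injective_or_decomp (ρ : G →* Module.End F V) [Finite V] (B : Submonoid (Module.End F V))
    (hcomm : ∀ x ∈ B, ∀ y ∈ B, x * y = y * x)
    (hnorm : ∀ g : G, ∀ b ∈ B, ρ g * b * ρ g⁻¹ ∈ B)
    (hirr : ∀ W : Submodule F V, (∀ g : G, W.map (ρ g) ≤ W) → W = ⊥ ∨ W = ⊤) :
    (∀ b ∈ B, ∀ v : V, b v = 0 → b = 0 ∨ v = 0) ∨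
    ∃ (t m : ℕ) (D : Fin t → Submodule F V), 2 ≤ t ∧ 0 < m ∧ (∀ i, Module.finrank F (D i) = m) ∧
      iSupIndep D ∧ iSup D = ⊤ ∧
      ∀ g : G, ∃ σ : Equiv.Perm (Fin t), ∀ i, (D i).map (ρ g) = D (σ i) := by
  classical
  have : Finite (Module.End F V) := DFunLike.finite _
  have : Finite (Submodule F V) := Finite.of_injective _ SetLike.coe_injective
  have : Module.Finite F V := Module.Finite.of_finite
  rcases subsingleton_or_nontrivial V with hV | hV
  · exact Or.inl fun b _ v _ => Or.inr (Subsingleton.elim _ _)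
  let I : V → Set (Module.End F V) := fun v => {b | b ∈ B ∧ b v = 0}
  obtain ⟨v₀, hv₀, hmax⟩ := Set.exists_max_image {v : V | v ≠ 0} (fun v => (I v).ncard)
    (Set.toFinite _) (exists_ne 0)
  replace hv₀ : v₀ ≠ 0 := hv₀
  -- the space killed by the annihilator
  let W : V → Submodule F V := fun v =>
    { carrier := {w | ∀ b ∈ I v, b w = 0}
      add_mem' := fun {x y} hx hy b hb => by rw [map_add, hx b hb, hy b hb, add_zero]
      zero_mem' := fun b _ => map_zero b
      smul_mem' := fun c x hx b hb => by rw [map_smul, hx b hb, smul_zero] }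
  have hWself : ∀ v, v ∈ W v := fun v b hb => hb.2
  have hWle : ∀ (g : G) (v : V), (W v).map (ρ g) ≤ W (ρ g v) := by
    rintro g v _ ⟨w, hw, rfl⟩ b hb
    have := hw (ρ g⁻¹ * b * ρ g⁻¹⁻¹) ⟨hnorm _ b hb.1, by
      rw [inv_inv, Module.End.mul_apply, Module.End.mul_apply, hb.2, map_zero]⟩
    rw [inv_inv, Module.End.mul_apply, Module.End.mul_apply] at this
    exact rho_injective ρ g⁻¹ (by rw [this, map_zero])
  have hWmap : ∀ (g : G) (v : V), (W v).map (ρ g) = W (ρ g v) := by
    intro g v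
    apply le_antisymm (hWle g v)
    intro w hw
    refine ⟨ρ g⁻¹ w, ?_, rho_apply_inv ρ g w⟩
    have := hWle g⁻¹ (ρ g v) ⟨w, hw, rfl⟩
    rwa [rho_inv_apply] at this
  have hcard : ∀ g : G, (I (ρ g v₀)).ncard = (I v₀).ncard := fun g => ncard_ann_eq ρ B hnorm g v₀
  have hIw : ∀ (g : G) (w : V), w ∈ W (ρ g v₀) → w ≠ 0 → I (ρ g v₀) = I w := by
    intro g w hw hw0
    refine Set.eq_of_subset_of_ncard_le (fun b hb => (⟨hb.1, hw b hb⟩ : b ∈ B ∧ b w = 0)) ?_
    rw [hcard]; exact hmax w hw0
  let 𝒲 : Set (Submodule F V) := Set.range fun g : G => W (ρ g v₀)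
  let e := Finite.equivFin 𝒲
  let D : Fin (Nat.card 𝒲) → Submodule F V := fun i => e.symm i
  have hD : ∀ i, ∃ g, D i = W (ρ g v₀) := fun i => by
    obtain ⟨g, hg⟩ := (e.symm i).2
    exact ⟨g, hg.symm⟩
  have hDinj : Function.Injective D := Subtype.val_injective.comp e.symm.injective
  have hDsurj : ∀ g, ∃ i, D i = W (ρ g v₀) := fun g => ⟨e ⟨_, g, rfl⟩,
    congrArg Subtype.val (e.symm_apply_apply _)⟩
  have hperm : ∀ g : G, ∃ σ : Equiv.Perm (Fin (Nat.card 𝒲)), ∀ i, (D i).map (ρ g) = D (σ i) := by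
    intro g
    have : ∀ i, ∃ j, (D i).map (ρ g) = D j := by
      intro i
      obtain ⟨h, hh⟩ := hD i
      obtain ⟨j, hj⟩ := hDsurj (g * h)
      exact ⟨j, by rw [hh, hWmap, hj, map_mul, Module.End.mul_apply]⟩
    choose σ hσ using this
    have hinj : Function.Injective σ := by
      intro i j hij
      apply hDinj
      apply Submodule.map_injective_of_injective (rho_injective ρ g)
      rw [hσ, hσ, hij]
    exact ⟨Equiv.ofBijective σ (Finite.injective_iff_bijective.mp hinj), hσ⟩
  have htop : iSup D = ⊤ := by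
    rcases hirr (iSup D) (fun g => by
      obtain ⟨σ, hσ⟩ := hperm g
      rw [Submodule.map_iSup]
      exact iSup_le fun i => by rw [hσ]; exact le_iSup D _) with h | h
    · exfalso
      obtain ⟨i, hi⟩ := hDsurj 1
      have : v₀ ∈ iSup D := le_iSup D i (by rw [hi, map_one]; exact hWself v₀)
      rw [h] at this
      exact hv₀ this
    · exact h
  by_cases ht : 2 ≤ Nat.card 𝒲
  · right
    refine ⟨Nat.card 𝒲, Module.finrank F (W v₀), D, ht, ?_, ?_, ?_, htop, hperm⟩
    · rw [Module.finrank_pos_iff_exists_ne_zero]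
      exact ⟨⟨v₀, hWself v₀⟩, fun h => hv₀ (congrArg Subtype.val h)⟩
    · intro i
      obtain ⟨g, hg⟩ := hD i
      rw [hg, ← hWmap]
      exact (Submodule.equivMapOfInjective _ (rho_injective ρ g) (W v₀)).finrank_eq.symm
    · intro i
      have key : ∀ s : Finset (Fin (Nat.card 𝒲)), i ∉ s → ∃ b ∈ B,
          (∀ w ∈ D i, b w = 0 → w = 0) ∧ ∀ j ∈ s, ∀ w ∈ D j, b w = 0 := by
        intro s
        induction s using Finset.induction_on with
        | empty => exact fun _ => ⟨1, one_mem _, fun w _ h => h,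
            fun j hj => absurd hj (Finset.notMem_empty j)⟩
        | insert j s hj ih =>
          intro hi
          rw [Finset.mem_insert, not_or] at hi
          obtain ⟨b, hb, hb1, hb2⟩ := ih hi.2
          obtain ⟨g, hg⟩ := hD i
          obtain ⟨h, hh⟩ := hD j
          have hns : ¬ I (ρ h v₀) ⊆ I (ρ g v₀) := by
            intro hsub
            have := Set.eq_of_subset_of_ncard_le hsub (by rw [hcard, hcard])
            apply hi.1
            apply hDinj
            rw [hg, hh]
            ext w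
            change (∀ b ∈ I _, _) ↔ (∀ b ∈ I _, _)
            rw [this]
          obtain ⟨c, hc, hc'⟩ := Set.not_subset.mp hns
          refine ⟨b * c, mul_mem hb hc.1, fun w hw hbc => ?_, fun k hk w hw => ?_⟩
          · by_contra hw0
            apply hc'
            rw [hIw g w (hg ▸ hw) hw0]
            refine ⟨hc.1, hb1 _ ?_ hbc⟩
            rw [hg] at hw ⊢
            intro d hd
            rw [← Module.End.mul_apply, hcomm d hd.1 c hc.1, Module.End.mul_apply, hw d hd, map_zero]
          · rcases Finset.mem_insert.mp hk with rfl | hk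
            · rw [Module.End.mul_apply, (hh ▸ hw : w ∈ W _) c hc, map_zero]
            · rw [hcomm b hb c hc.1, Module.End.mul_apply, hb2 k hk w hw, map_zero]
      obtain ⟨b, -, hb1, hb2⟩ := key (Finset.univ.erase i) (Finset.notMem_erase _ _)
      rw [Submodule.disjoint_def]
      intro w hw hw'
      apply hb1 w hw
      have : (⨆ j, ⨆ _ : j ≠ i, D j) ≤ LinearMap.ker b :=
        iSup_le fun j => iSup_le fun hj w hw => hb2 j (Finset.mem_erase.mpr ⟨hj, Finset.mem_univ _⟩) w hw
      exact this hw'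
  · left
    have hsub : Subsingleton (Fin (Nat.card 𝒲)) := Fin.subsingleton_iff_le_one.mpr (by omega)
    obtain ⟨i, hi⟩ := hDsurj 1
    have hW : W v₀ = ⊤ := by
      rw [eq_top_iff, ← htop]
      exact iSup_le fun j => by rw [Subsingleton.elim j i, hi, map_one]; rfl
    intro b hb v hbv
    by_cases hv : v = 0
    · exact Or.inr hv
    left
    have := hIw 1 v (by rw [map_one]; change v ∈ W v₀; rw [hW]; trivial) hv
    rw [map_one] at this
    have hb' : b ∈ I v₀ := by
      change b ∈ I ((1 : Module.End F V) v₀)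
      rw [this]; exact ⟨hb, hbv⟩
    ext w
    exact (hW ▸ Submodule.mem_top : w ∈ W v₀) b hb'

/-- The subalgebra spanned by a normal abelian subgroup. -/
def alg (ρ : G →* Module.End F V) (A : Subgroup G) : Subalgebra F (Module.End F V) :=
  Algebra.adjoin F (ρ '' A)

theorem mem_alg (ρ : G →* Module.End F V) {A : Subgroup G} {a : G} (ha : a ∈ A) : ρ a ∈ alg ρ A :=
  Algebra.subset_adjoin ⟨a, ha, rfl⟩

theorem commute_alg (ρ : G →* Module.End F V) {A : Subgroup G} {x : Module.End F V}
    (hx : ∀ a ∈ A, x * ρ a = ρ a * x) : ∀ y ∈ alg ρ A, x * y = y * x := by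
  intro y hy
  exact Algebra.commute_of_mem_adjoin_of_forall_mem_commute hy (by
    rintro _ ⟨a, ha, rfl⟩; exact hx a ha)

theorem alg_comm (ρ : G →* Module.End F V) {A : Subgroup G} (hA : IsMulCommutative A) :
    ∀ x ∈ alg ρ A, ∀ y ∈ alg ρ A, x * y = y * x := by
  intro x hx
  apply commute_alg
  intro a ha
  symm
  apply commute_alg ρ _ x hx
  intro b hb
  rw [← map_mul, ← map_mul]
  congr 1
  exact congrArg Subtype.val (hA.is_comm.comm ⟨a, ha⟩ ⟨b, hb⟩)

theorem alg_norm (ρ : G →* Module.End F V) {A : Subgroup G} (hA : A.Normal) (g : G) :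
    ∀ b ∈ alg ρ A, ρ g * b * ρ g⁻¹ ∈ alg ρ A := by
  intro b hb
  induction hb using Algebra.adjoin_induction with
  | mem x hx =>
    obtain ⟨a, ha, rfl⟩ := hx
    rw [← map_mul, ← map_mul]
    exact mem_alg ρ (hA.conj_mem a ha g)
  | algebraMap c =>
    rw [← Algebra.commutes, mul_assoc, ← map_mul, mul_inv_cancel, map_one, mul_one]
    exact Subalgebra.algebraMap_mem _ c
  | add x y _ _ ihx ihy => rw [mul_add, add_mul]; exact add_mem ihx ihy
  | mul x y _ _ ihx ihy =>
    have : ρ g * (x * y) * ρ g⁻¹ = (ρ g * x * ρ g⁻¹) * (ρ g * y * ρ g⁻¹) := by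
      simp only [mul_assoc]
      rw [← mul_assoc (ρ g⁻¹) (ρ g), ← map_mul, inv_mul_cancel, map_one, one_mul]
    rw [this]; exact mul_mem ihx ihy

/-- fixed space -/
theorem two_mul_finrank_fix_le [Module.Finite F V] (ρ : G →* Module.End F V) (c : F) (g w : G) :
    2 * Module.finrank F (Module.End.eigenspace (ρ g) c) ≤ Module.finrank F V +
      Module.finrank F (Module.End.eigenspace (ρ g) c ⊓
        Module.End.eigenspace (ρ (w * g * w⁻¹)) c : Submodule F V) := by
  have h1 : (Module.End.eigenspace (ρ g) c).map (ρ w) ≤ Module.End.eigenspace (ρ (w * g * w⁻¹)) c := by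
    rintro _ ⟨v, hv, rfl⟩
    rw [SetLike.mem_coe, Module.End.mem_eigenspace_iff] at hv
    rw [Module.End.mem_eigenspace_iff, map_mul, map_mul, Module.End.mul_apply, Module.End.mul_apply,
      rho_inv_apply, hv, map_smul]
  have h2 := Submodule.finrank_mono h1
  rw [← (Submodule.equivMapOfInjective _ (rho_injective ρ w) _).finrank_eq] at h2
  have h3 := Submodule.finrank_sup_add_finrank_inf_eq (Module.End.eigenspace (ρ g) c)
    (Module.End.eigenspace (ρ (w * g * w⁻¹)) c)
  have h4 := Submodule.finrank_le (Module.End.eigenspace (ρ g) c ⊔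
    Module.End.eigenspace (ρ (w * g * w⁻¹)) c)
  omega

theorem two_mul_finrank_fix_le' [Module.Finite F V] (ρ : G →* Module.End F V) (c : F)
    (g w : G) :
    2 * Module.finrank F (Module.End.eigenspace (ρ g) c) ≤ Module.finrank F V +
      Module.finrank F (Module.End.eigenspace (ρ (g⁻¹ * (w * g * w⁻¹))) 1) := by
  refine (two_mul_finrank_fix_le ρ c g w).trans (Nat.add_le_add_left (Submodule.finrank_mono ?_) _)
  rintro v ⟨h1, h2⟩
  rw [SetLike.mem_coe, Module.End.mem_eigenspace_iff] at h1 h2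
  rw [Module.End.mem_eigenspace_iff, map_mul, Module.End.mul_apply, h2, ← h1, rho_inv_apply,
    one_smul]

end Cfsg.Agent.H2.NormalField
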