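import Mathlib
import Cfsg.Agent.H2.Semireg
import Cfsg.Agent.H2.NormalField

set_option autoImplicit false

/-! Linear groups regular on non-zero vectors. -/

namespace Cfsg.Agent.H2.Regular

open Subgroup Cfsg.Agent.H2.SolvClass2 Cfsg.Agent.H2.Semireg Cfsg.Agent.H2.NormalField

theorem card_dvd_of_free {A X : Type*} [Group A] [MulAction A X]
    (h : ∀ (a : A) (x : X), a • x = x → a = 1) : Nat.card A ∣ Nat.card X := by
  rw [Nat.card_congr (MulAction.selfEquivOrbitsQuotientProd (G := A) (X := X) fun b => by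
    rw [eq_bot_iff]; intro a ha; exact h a b ha), Nat.card_prod]
  exact Dvd.intro_left _ rfl

variable {F V G : Type*} [Field F] [AddCommGroup V] [Module F V] [Group G]

/-- the representation of a subgroup of the automorphism group -/
def rho (H : Subgroup (V ≃ₗ[F] V)) : H →* Module.End F V :=
  (LinearEquiv.automorphismGroup.toLinearMapMonoidHom).comp H.subtype

theorem rho_apply (H : Subgroup (V ≃ₗ[F] V)) (h : H) (v : V) : rho H h v = (h : V ≃ₗ[F] V) v := rfl

theorem card_dvd_card_sub_one [Finite V] {ρ : G →* Module.End F V} (h : IsSR ρ) (W : Submodule F V)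
    (hW : ∀ g : G, ∀ v ∈ W, ρ g v ∈ W) : Nat.card G ∣ Nat.card W - 1 := by
  classical
  letI : MulAction G {w : W // w ≠ 0} :=
    { smul := fun g w => ⟨⟨ρ g w.1, hW g _ w.1.2⟩, fun h0 => w.2 (Subtype.ext (rho_injective ρ g
        (by simpa using congrArg Subtype.val h0)))⟩
      one_smul := fun w => Subtype.ext (Subtype.ext (by
        change ρ 1 w.1 = w.1
        rw [map_one]; rfl))
      mul_smul := fun a b w => Subtype.ext (Subtype.ext (by
        change ρ (a * b) w.1 = ρ a (ρ b w.1)
        rw [map_mul]; rfl)) }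
  have hd := card_dvd_of_free (A := G) (X := {w : W // w ≠ 0}) (fun a x hx => by
    by_contra ha
    exact x.2 (Subtype.ext (h.fixed ha (congrArg (fun y : {w : W // w ≠ 0} => (y.1 : V)) hx))))
  have := Fintype.ofFinite W
  simpa [Nat.card_eq_fintype_card, Fintype.card_subtype_compl] using hd

theorem isField_of_injective [Finite V] [Nontrivial V] (B : Subalgebra F (Module.End F V))
    (hcomm : ∀ x ∈ B, ∀ y ∈ B, x * y = y * x)
    (hinj : ∀ b ∈ B, ∀ v : V, b v = 0 → b = 0 ∨ v = 0) : IsField B := by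
  have : Finite (Module.End F V) := DFunLike.finite _
  have : NoZeroDivisors B := ⟨fun {a b} hab => by
    by_cases hb : b = 0
    · exact Or.inr hb
    left
    obtain ⟨v, hv⟩ : ∃ v, (b : Module.End F V) v ≠ 0 := by
      by_contra h
      push Not at h
      exact hb (Subtype.ext (LinearMap.ext h))
    have := congrArg (fun x : B => (x : Module.End F V) v) hab
    rcases hinj a a.2 _ this with h | h
    · exact Subtype.ext h
    · exact absurd h hv⟩
  have : IsDomain B := NoZeroDivisors.to_isDomain B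
  exact Finite.isDomain_to_isField B

/-- the subgroup of elements commuting with a set of endomorphisms -/
def centr (ρ : G →* Module.End F V) (B : Set (Module.End F V)) : Subgroup G where
  carrier := {g | ∀ b ∈ B, ρ g * b = b * ρ g}
  mul_mem' := fun {x y} hx hy b hb => by
    rw [map_mul, mul_assoc, hy b hb, ← mul_assoc, hx b hb, mul_assoc]
  one_mem' := fun b _ => by rw [map_one, one_mul, mul_one]
  inv_mem' := fun {x} hx b hb => by
    have h1 : ρ x⁻¹ * ρ x = 1 := by rw [← map_mul, inv_mul_cancel, map_one]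
    have h2 : ρ x * ρ x⁻¹ = 1 := by rw [← map_mul, mul_inv_cancel, map_one]
    calc ρ x⁻¹ * b = ρ x⁻¹ * (b * ρ x) * ρ x⁻¹ := by rw [mul_assoc, mul_assoc, h2, mul_one]
      _ = b * ρ x⁻¹ := by rw [← hx b hb, ← mul_assoc, h1, one_mul]

theorem index_centr_le [Finite V] (ρ : G →* Module.End F V) (B : Subalgebra F (Module.End F V))
    (hB : IsField B) (hnorm : ∀ g : G, ∀ b ∈ B, ρ g * b * ρ g⁻¹ ∈ B) :
    (centr ρ B).index ≤ Module.finrank F B := by
  have : Finite (Module.End F V) := DFunLike.finite _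
  have : Module.Finite F B := Module.Finite.of_finite
  letI := hB.toField
  have h1 : ∀ x, ρ x⁻¹ * ρ x = 1 := fun x => by rw [← map_mul, inv_mul_cancel, map_one]
  have h2 : ∀ x, ρ x * ρ x⁻¹ = 1 := fun x => by rw [← map_mul, mul_inv_cancel, map_one]
  let φ : G → (B →ₐ[F] B) := fun g =>
    { toFun := fun b => ⟨ρ g * b * ρ g⁻¹, hnorm g b b.2⟩
      map_one' := Subtype.ext (by simp [h2])
      map_mul' := fun x y => Subtype.ext (by
        change ρ g * (x * y) * ρ g⁻¹ = ρ g * x * ρ g⁻¹ * (ρ g * y * ρ g⁻¹)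
        simp only [mul_assoc]
        rw [← mul_assoc (ρ g⁻¹) (ρ g), h1, one_mul])
      map_zero' := Subtype.ext (by simp)
      map_add' := fun x y => Subtype.ext (by simp [mul_add, add_mul])
      commutes' := fun c => Subtype.ext (by
        change ρ g * algebraMap F _ c * ρ g⁻¹ = algebraMap F _ c
        rw [← Algebra.commutes, mul_assoc, h2, mul_one]) }
  refine le_trans ?_ (card_algHom_le_finrank F B B)
  apply Nat.card_le_card_of_injective (fun q : G ⧸ centr ρ B => φ q.out)
  intro q r hqr
  rw [← q.out_eq, ← r.out_eq]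
  apply Quotient.sound
  change QuotientGroup.leftRel _ _ _
  rw [QuotientGroup.leftRel_apply]
  intro b hb
  have := congrArg (fun f : B →ₐ[F] B => (f ⟨b, hb⟩ : Module.End F V)) hqr
  change ρ q.out * b * ρ q.out⁻¹ = ρ r.out * b * ρ r.out⁻¹ at this
  calc ρ (q.out⁻¹ * r.out) * b = ρ q.out⁻¹ * (ρ r.out * b * ρ r.out⁻¹) * ρ r.out := by
        rw [map_mul]; simp only [mul_assoc]; rw [h1, mul_one]
    _ = b * ρ (q.out⁻¹ * r.out) := by
        rw [← this, map_mul]; simp only [← mul_assoc]; rw [h1, one_mul]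

theorem card_eq_pow [Finite V] (B : Subalgebra F (Module.End F V)) (hB : IsField B) :
    ∃ m, Nat.card V = Nat.card B ^ m := by
  letI := hB.toField
  have : Module.Finite B V := Module.Finite.of_finite
  exact ⟨_, Module.natCard_eq_pow_finrank (K := B)⟩

theorem alg_apply_mem (ρ : G →* Module.End F V) {A : Subgroup G} {W : Submodule F V}
    (hW : ∀ a ∈ A, ∀ v ∈ W, ρ a v ∈ W) : ∀ b ∈ alg ρ A, ∀ v ∈ W, b v ∈ W := by
  intro b hb
  induction hb using Algebra.adjoin_induction with
  | mem x hx => obtain ⟨a, ha, rfl⟩ := hx; exact hW a ha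
  | algebraMap c => intro v hv; exact W.smul_mem c hv
  | add x y _ _ ihx ihy => intro v hv; exact W.add_mem (ihx v hv) (ihy v hv)
  | mul x y _ _ ihx ihy => intro v hv; exact ihx _ (ihy v hv)

/-- regular on non-zero vectors -/
def IsReg (ρ : G →* Module.End F V) : Prop := ∀ v w : V, v ≠ 0 → w ≠ 0 → ∃! g : G, ρ g v = w

variable {ρ : G →* Module.End F V}

theorem IsReg.isSR [Finite V] (h : IsReg ρ) : IsSR ρ := by
  have : Module.Finite F V := Module.Finite.of_finite
  apply isSR_of_fixed
  intro g hg v hv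
  by_contra hv0
  exact hg ((h v v hv0 hv0).unique hv (by rw [map_one]; rfl))

theorem IsReg.trans (h : IsReg ρ) (v w : V) (hv : v ≠ 0) (hw : w ≠ 0) : ∃ g : G, ρ g v = w :=
  (h v w hv hw).exists

theorem IsReg.card [Finite V] [Nontrivial V] (h : IsReg ρ) : Nat.card G = Nat.card V - 1 := by
  classical
  obtain ⟨v, hv⟩ := exists_ne (0 : V)
  have : Nat.card G = Nat.card {w : V // w ≠ 0} := by
    apply Nat.card_eq_of_bijective (fun g => ⟨ρ g v, fun h0 => hv (rho_injective ρ g (by simpa))⟩)
    constructor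
    · intro a b hab
      exact (h v (ρ b v) hv (fun h0 => hv (rho_injective ρ b (by simpa)))).unique
        (congrArg Subtype.val hab) rfl
    · rintro ⟨w, hw⟩
      obtain ⟨g, hg⟩ := h.trans v w hv hw
      exact ⟨g, Subtype.ext hg⟩
  rw [this]
  have := Fintype.ofFinite V
  simp [Nat.card_eq_fintype_card, Fintype.card_subtype_compl]

theorem IsReg.finite [Finite V] [Nontrivial V] (h : IsReg ρ) : Finite G := by
  have : Finite (Module.End F V) := DFunLike.finite _
  exact Finite.of_injective _ h.isSR.injective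

theorem IsReg.isField_alg [Finite V] [Nontrivial V] (h : IsReg ρ) {A : Subgroup G} (hAn : A.Normal)
    (hAc : IsMulCommutative A) : IsField (alg ρ A) :=
  isField_of_injective _ (alg_comm ρ hAc)
    (injective_of_transitive ρ (alg ρ A) (alg_comm ρ hAc) (alg_norm ρ hAn) h.trans)

theorem card_le_of_le_units [Finite V] [Nontrivial V] (h : Function.Injective ρ) {A : Subgroup G}
    (B : Subalgebra F (Module.End F V)) (hAB : ∀ a ∈ A, ρ a ∈ B) : Nat.card A ≤ Nat.card B - 1 := by
  classical
  have : Finite (Module.End F V) := DFunLike.finite _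
  have h1 : Nat.card A ≤ Nat.card {b : B // b ≠ 0} := by
    refine Nat.card_le_card_of_injective (fun a => ⟨⟨ρ a, hAB a a.2⟩, fun h0 => ?_⟩) ?_
    · have := (Group.isUnit (a : G)).map ρ
      exact this.ne_zero (congrArg Subtype.val h0)
    · intro a b hab
      exact Subtype.ext (h (congrArg (fun x : {b : B // b ≠ 0} => (x.1 : Module.End F V)) hab))
  have := Fintype.ofFinite B
  simpa [Nat.card_eq_fintype_card, Fintype.card_subtype_compl] using h1

theorem IsReg.centralizer_ne [Finite F] [Finite V] (h : IsReg ρ) {A : Subgroup G} (hAn : A.Normal)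
    (hAc : IsMulCommutative A) {W : Submodule F V} (hW0 : W ≠ ⊥) (hW1 : W ≠ ⊤)
    (hW : ∀ a ∈ A, ∀ v ∈ W, ρ a v ∈ W) : ¬ centralizer (A : Set G) ≤ A := by
  intro hC
  obtain ⟨w, hwW, hw⟩ := (Submodule.ne_bot_iff W).mp hW0
  have : Nontrivial V := ⟨⟨w, 0, hw⟩⟩
  have : Finite (Module.End F V) := DFunLike.finite _
  have := h.finite
  have hB := h.isField_alg hAn hAc
  obtain ⟨m, hm⟩ := card_eq_pow _ hB
  have h1 := index_centr_le ρ _ hB (alg_norm ρ hAn)
  have h2 : centr ρ (alg ρ A) ≤ A := by
    refine le_trans ?_ hC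
    intro g hg a ha
    apply h.isSR.injective
    rw [map_mul, map_mul, hg _ (mem_alg ρ ha)]
  have h3 := card_le_of_le_units h.isSR.injective (alg ρ A) (fun a ha => mem_alg ρ ha)
  have h4 := (centr ρ (alg ρ A)).index_mul_card
  have h5 := card_le_of_le h2
  have : Module.Finite F (alg ρ A) := Module.Finite.of_finite
  have h6 : Nat.card (alg ρ A) = Nat.card F ^ Module.finrank F (alg ρ A) :=
    Module.natCard_eq_pow_finrank
  have h7 : Module.finrank F (alg ρ A) < Nat.card (alg ρ A) := by
    rw [h6]; exact Nat.lt_pow_self Finite.one_lt_card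
  have hV : 1 < Nat.card V := Finite.one_lt_card
  have hm2 : 2 ≤ m := by
    by_contra hm2
    have : m = 0 ∨ m = 1 := by omega
    rcases this with rfl | rfl
    · rw [pow_zero] at hm; omega
    apply hW1
    letI := hB.toField
    have : Nat.card (alg ρ A) ≤ Nat.card W := by
      apply Nat.card_le_card_of_injective
        (fun b : alg ρ A => (⟨(b : Module.End F V) w, alg_apply_mem ρ hW b b.2 w hwW⟩ : W))
      intro a b hab
      have : (a - b) • w = 0 := by
        rw [sub_smul, sub_eq_zero]; exact congrArg Subtype.val hab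
      exact sub_eq_zero.mp ((smul_eq_zero.mp this).resolve_right hw)
    apply SetLike.coe_injective
    apply Set.eq_of_subset_of_ncard_le (Set.subset_univ _)
    rw [Set.ncard_univ, hm, pow_one]
    exact this
  rw [h.card, hm] at h4
  set q := Nat.card (alg ρ A)
  have h8 : q ^ 2 ≤ q ^ m := Nat.pow_le_pow_right (by omega) hm2
  have h9 : (centr ρ (alg ρ A)).index * Nat.card (centr ρ (alg ρ A)) ≤ (q - 1) * (q - 1) :=
    Nat.mul_le_mul (by omega) (by omega)
  obtain ⟨r, hr⟩ : ∃ r, q = r + 1 := ⟨q - 1, by omega⟩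
  have : 0 < Module.finrank F (alg ρ A) := Module.finrank_pos
  rw [hr] at h4 h8 h9 h7
  simp only [Nat.add_sub_cancel] at h9
  have : (r + 1) ^ 2 = r * r + 2 * r + 1 := by ring
  omega

end Cfsg.Agent.H2.Regular
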