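import Mathlib
import Cfsg.Agent.H2.Regular
import Cfsg.Agent.H2.Icosian

set_option autoImplicit false

/-! Recognition of generalised quaternion groups; automorphisms of `Q₈` and `SL(2,5)`. -/

namespace Cfsg.Agent.H2.QuatAut

open Subgroup QuaternionGroup Cfsg.Agent.H2.Icosian
open scoped MatrixGroups

theorem quaternion_iso {G : Type*} [Group G] [Finite G] {n : ℕ} [NeZero n] {x y : G}
    (hx : orderOf x = 2 * n) (hi : (zpowers x).index = 2) (hy : y ∉ zpowers x)
    (hyx : y * x * y⁻¹ = x⁻¹) (hyy : y * y = x ^ n) : Nonempty (QuaternionGroup n ≃* G) := by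
  have hn : NeZero (2 * n) := ⟨by have := NeZero.ne n; omega⟩
  let φ : ZMod (2 * n) → G := fun i => x ^ i.val
  have hφ : ∀ k : ℕ, φ k = x ^ k := fun k => by
    simp only [φ]; rw [ZMod.val_natCast, ← hx, pow_mod_orderOf]
  have hadd : ∀ i j, φ (i + j) = φ i * φ j := fun i j => by
    rw [← ZMod.natCast_zmod_val i, ← ZMod.natCast_zmod_val j, ← Nat.cast_add, hφ, hφ, hφ, pow_add]
  have hsub : ∀ i j, φ (i - j) = (φ j)⁻¹ * φ i := fun i j => by
    rw [eq_inv_mul_iff_mul_eq, ← hadd, add_sub_cancel]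
  have hc : ∀ i, φ i * y = y * (φ i)⁻¹ := fun i => by
    have : y * (φ i)⁻¹ * y⁻¹ = φ i := by
      simp only [φ]; rw [← inv_pow, ← conj_pow, ← conj_inv, hyx, inv_inv]
    exact (mul_inv_eq_iff_eq_mul.mp this).symm
  let f : QuaternionGroup n → G := fun q => match q with
    | a i => φ i
    | xa i => y * φ i
  let F : QuaternionGroup n →* G := MonoidHom.mk' f (by
    rintro (i | i) (j | j)
    · exact hadd i j
    · change y * φ (j - i) = φ i * (y * φ j)
      rw [hsub, ← mul_assoc, ← mul_assoc, hc]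
    · change y * φ (i + j) = y * φ i * φ j
      rw [hadd, mul_assoc]
    · change φ (n + j - i) = y * φ i * (y * φ j)
      rw [add_sub_assoc, hadd, hsub, hφ, ← hyy, mul_assoc y (φ i), ← mul_assoc (φ i), hc]
      group)
  refine ⟨MulEquiv.ofBijective F ((Nat.bijective_iff_surjective_and_card F).mpr ⟨fun g => ?_, ?_⟩)⟩
  · by_cases hg : g ∈ zpowers x
    · obtain ⟨k, rfl⟩ := PGroup.exists_nat_pow hg
      exact ⟨a k, hφ k⟩
    · have : y⁻¹ * g ∈ zpowers x := by
        rw [mul_mem_iff_of_index_two hi, inv_mem_iff]; exact iff_of_false hy hg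
      obtain ⟨k, hk⟩ := PGroup.exists_nat_pow this
      exact ⟨xa k, by change y * φ k = g; rw [hφ, ← hk, mul_inv_cancel_left]⟩
  · rw [Nat.card_eq_fintype_card, QuaternionGroup.card, ← (zpowers x).index_mul_card, hi,
      Nat.card_zpowers, hx]; ring

theorem card_mulAut_q8 : Nat.card (MulAut (QuaternionGroup 2)) ∣ 24 := by
  let X := {p : QuaternionGroup 2 × QuaternionGroup 2 // p.1 * p.2 ≠ p.2 * p.1}
  have hX : Nat.card X = 24 := by rw [Nat.card_eq_fintype_card]; decide
  letI : MulAction (MulAut (QuaternionGroup 2)) X :=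
    { smul := fun σ p => ⟨(σ p.1.1, σ p.1.2), fun h => p.2 (σ.injective (by
        rw [map_mul, map_mul]; exact h))⟩
      one_smul := fun _ => rfl
      mul_smul := fun _ _ _ => rfl }
  rw [← hX]
  refine Regular.card_dvd_of_free fun σ p hp => ?_
  have h1 : σ p.1.1 = p.1.1 := congrArg (fun q : X => q.1.1) hp
  have h2 : σ p.1.2 = p.1.2 := congrArg (fun q : X => q.1.2) hp
  have key : ∀ u v : QuaternionGroup 2, u * v ≠ v * u → ∀ w, w = 1 ∨ w = u ∨ w = u * u ∨
      w = u * u * u ∨ w = v ∨ w = u * v ∨ w = u * u * v ∨ w = u * u * u * v := by decide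
  ext w
  rcases key _ _ p.2 w with h | h | h | h | h | h | h | h <;> rw [h] <;>
    simp only [map_mul, map_one, h1, h2, MulAut.one_apply]

/-- an element of order five -/
def gT : SL(2, ZMod 5) := ⟨!![2, 1; 4, 0], by rw [Matrix.det_fin_two_of]; decide⟩

theorem toT_gT : toT gT = (2, 1, 4, 0) := rfl

theorem gA_pow : gA ^ 3 = 1 := toT_injective (by rw [toT_pow, toT_one, toT_gA]; decide)
theorem gT_pow : gT ^ 5 = 1 := toT_injective (by rw [toT_pow, toT_one, toT_gT]; decide)
theorem gAT_pow : (gA * gT) ^ 4 = 1 :=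
  toT_injective (by rw [toT_pow, toT_one, toT_mul, toT_gA, toT_gT]; decide)
theorem gAT_ne : gA * gT ≠ gT * gA := fun h => by
  have := congrArg toT h
  rw [toT_mul, toT_mul, toT_gA, toT_gT] at this
  exact absurd this (by decide)
theorem gX_eq : gX = gA * gT * gA * gA * gT * gT :=
  toT_injective (by simp only [toT_mul, toT_gA, toT_gT, toT_gX]; decide)
theorem gY_eq : gY = gT * gA * gA * gT * gT * gT :=
  toT_injective (by simp only [toT_mul, toT_gA, toT_gT, toT_gY]; decide)

instance instDecEqT4 : DecidableEq T4 :=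
  inferInstanceAs (DecidableEq (ZMod 5 × ZMod 5 × ZMod 5 × ZMod 5))

/-- determinant -/
def detT (x : T4) : ZMod 5 := x.1 * x.2.2.2 - x.2.1 * x.2.2.1
/-- elements of order three -/
def setA : Finset T4 := Finset.univ.filter fun x => detT x = 1 ∧ powT x 3 = (1, 0, 0, 1) ∧
  x ≠ (1, 0, 0, 1)
/-- partners of order five -/
def setB (a : T4) : Finset T4 := Finset.univ.filter fun x => detT x = 1 ∧
  powT x 5 = (1, 0, 0, 1) ∧ powT (mulT a x) 4 = (1, 0, 0, 1)

theorem card_setA : setA.card = 20 := by decide +kernel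
theorem card_setB : ∀ a ∈ setA, (setB a).card = 6 := by decide +kernel
theorem card_det : (Finset.univ.filter fun x : T4 => detT x = 1).card = 120 := by decide +kernel

theorem card_sl : Nat.card SL(2, ZMod 5) = 120 := by
  rw [← card_det, ← Nat.card_eq_finsetCard]
  refine Nat.card_eq_of_bijective (fun g => ⟨toT g,
    Finset.mem_filter.mpr ⟨Finset.mem_univ _, toT_det g⟩⟩) ⟨?_, ?_⟩
  · intro g h hgh
    exact toT_injective (congrArg Subtype.val hgh)
  · rintro ⟨x, hx⟩
    exact ⟨⟨!![x.1, x.2.1; x.2.2.1, x.2.2.2], by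
      rw [Matrix.det_fin_two_of]; exact (Finset.mem_filter.mp hx).2⟩, rfl⟩

theorem card_mulAut_sl : Nat.card (MulAut SL(2, ZMod 5)) ≤ 120 := by
  have h1 : (setA.sigma setB).card = 120 := by
    rw [Finset.card_sigma, Finset.sum_congr rfl card_setB, Finset.sum_const, card_setA]; rfl
  rw [← h1, ← Nat.card_eq_finsetCard]
  refine Nat.card_le_card_of_injective (fun σ => ⟨⟨toT (σ gA), toT (σ gT)⟩, ?_⟩) ?_
  · simp only [setA, setB, Finset.mem_sigma, Finset.mem_filter, Finset.mem_univ, true_and]
    refine ⟨⟨toT_det _, ?_, ?_⟩, toT_det _, ?_, ?_⟩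
    · rw [← toT_pow, ← map_pow, gA_pow, map_one, toT_one]
    · rw [← toT_one, toT_injective.ne_iff, Ne, MulEquiv.map_eq_one_iff]
      intro h; exact gAT_ne (by rw [h, one_mul, mul_one])
    · rw [← toT_pow, ← map_pow, gT_pow, map_one, toT_one]
    · rw [← toT_mul, ← toT_pow, ← map_mul, ← map_pow, gAT_pow, map_one, toT_one]
  · intro σ τ h
    have h2 := congrArg Subtype.val h
    simp only [Sigma.mk.injEq, heq_eq_eq] at h2
    have hA := toT_injective h2.1
    have hT := toT_injective h2.2
    ext1 g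
    induction g using induction_gens with
    | h1 => simp
    | hA g hg => rw [map_mul, map_mul, hg, hA]
    | hX g hg => simp only [gX_eq, map_mul, hg, hA, hT]
    | hY g hg => simp only [gY_eq, map_mul, hg, hA, hT]

theorem index_centralizer_dvd {G : Type*} [Group G] (N : Subgroup G) [N.Normal] {Q : Type*}
    [Group Q] (e : N ≃* Q) : (centralizer (N : Set G)).index ∣ Nat.card (MulAut Q) := by
  have : (MulAut.conjNormal (H := N)).ker = centralizer (N : Set G) := by
    ext g
    rw [MonoidHom.mem_ker, mem_centralizer_iff]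
    constructor
    · intro h n hn
      have := congrArg (fun σ : MulAut N => (σ ⟨n, hn⟩ : G)) h
      simp only [MulAut.conjNormal_apply, MulAut.one_apply] at this
      rw [mul_inv_eq_iff_eq_mul] at this
      exact this.symm
    · intro h
      ext n
      rw [MulAut.conjNormal_apply, ← h n n.2]; simp
  rw [← this, index_ker, ← Nat.card_congr (MulAut.congr e).toEquiv]
  exact card_subgroup_dvd_card _

end Cfsg.Agent.H2.QuatAut
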