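import Cfsg.Agent.H2.Frame

set_option autoImplicit false
set_option linter.unusedSectionVars false
set_option synthInstance.maxSize 4000

/-! Non-maximal geometric subgroups of small unitary groups in dimension four. -/

namespace Cfsg.Agent.H2.Cases

open Module Cfsg.Agent.Form Cfsg.Agent.H7 Mdl
open scoped Matrix MatrixGroups

variable {F : Type*} [Field F] [Fintype F]

/-- an invariant set of vectors -/
abbrev C49 (v : Fin 4 → F9) : Prop :=
  (∀ i j, v i ≠ 0 → v j ≠ 0 → v i * F9.cj (v i) = v j * F9.cj (v j)) ∧ wt v ≠ 3 ∧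
    (∏ i, v i = 0 ∨ (∏ i, v i) * ∏ i, v i = 1)

theorem c49_aux : ∀ a b c d : F9, C49 ![a, b, c, d] →
    C49 (!![1, 1, 1, 1; -1, -1, 1, 1; -1, 1, -1, 1; -1, 1, 1, -1] *ᵥ ![a, b, c, d]) := by decide +kernel

theorem su43_frame (hq : Fintype.card F = 3 ^ 2) {D : Fin 4 → Submodule F (Fin 4 → F)}
    (hD : Geo.IsNondegenerateMDecomposition (hermForm 4 F 3) 1 D) :
    ¬ Geo.IsMaximalIn (SUG 4 F 3) (Geo.decompositionStabilizer D ⊓ SUG 4 F 3) := by
  intro hH
  obtain ⟨φ, hφ⟩ := F9.exists_equiv hq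
  obtain ⟨M, hG, hM⟩ := frame_model hq φ hφ hD
  refine M.not_max hH (fun u _ => C49 u) (fun g hg u _ ⟨h1, h2, h3⟩ => ?_) ?_ ?_
  · obtain ⟨σ, c, a1, a2, a3⟩ := hM g hg
    refine ⟨fun i j => ?_, by rwa [wt_mono a1 (a3 u)], ?_⟩
    · obtain ⟨i, rfl⟩ := σ.surjective i
      obtain ⟨j, rfl⟩ := σ.surjective j
      have : ∀ c x : F9, c * F9.cj c = 1 → c * x * F9.cj (c * x) = x * F9.cj x := by decide +kernel
      rw [a3, a3, this _ _ (a1 i), this _ _ (a1 j)]
      exact fun a b => h1 i j (right_ne_zero_of_mul a) (right_ne_zero_of_mul b)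
    · rw [prod_mono (a3 u)]
      exact h3.imp (fun h => by rw [h, mul_zero]) fun h => by rw [mul_mul_mul_comm, sq_of_sign a2, h, mul_one]
  · obtain ⟨g, hg, e⟩ := hG.exists_su !![1, 1, 1, 1; -1, -1, 1, 1; -1, 1, -1, 1; -1, 1, 1, -1]
      !![1, -1, -1, -1; 1, -1, 1, 1; 1, 1, -1, 1; 1, 1, 1, -1] (by decide +kernel) (by decide +kernel)
    refine ⟨g, hg, e ▸ fun u _ hu => ?_, fun h => ?_⟩
    · have : u = ![u 0, u 1, u 2, u 3] := by ext i; fin_cases i <;> rfl
      rw [this] at hu ⊢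
      exact c49_aux _ _ _ _ hu
    · obtain ⟨σ, c, -, -, a3⟩ := hM g h
      have := mono_col a3 0 0 1 (by decide)
      rw [e] at this
      revert this; decide +kernel
  · obtain ⟨g, hg, e⟩ := hG.exists_su (Matrix.map !![4, 3, 3, 0; 3, 4, 3, 0; 3, 3, 4, 0; 0, 0, 0, 1] F9.e)
      (Matrix.map !![7, 6, 6, 0; 6, 7, 6, 0; 6, 6, 7, 0; 0, 0, 0, 1] F9.e) (by decide +kernel) (by decide +kernel)
    exact ⟨g, hg, e ▸ fun h => absurd (h ![0, 0, 1, 0] 0 (by decide +kernel)) (by decide +kernel)⟩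

theorem su4_pair {q : ℕ} (hq : Fintype.card F = q ^ 2) (h3 : q < 4) {D : Fin 2 → Submodule F (Fin 4 → F)}
    (hD : Geo.IsMDecomposition 2 D) (ht : ∀ i, Geo.IsTotallySingularFor (hermForm 4 F q) (D i)) :
    ¬ Geo.IsMaximalIn (SUG 4 F q) (Geo.decompositionStabilizer D ⊓ SUG 4 F q) := by
  intro hH
  have hq2 := two_le_of_card_sq hq
  obtain ⟨b, h0, h1, h2, h3, hb⟩ := pair_basis (US_nondeg hq 4) hD ht
  let M : Mdl F (Fin 4) (Fin 4) F := ⟨RingEquiv.refl F, b⟩
  let σ := frobQ hq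
  have hG : M.Gram (US hq 4) σ !![0, 0, 1, 0; 0, 0, 0, 1; 1, 0, 0, 0; 0, 1, 0, 0] := ⟨fun _ => rfl, hb⟩
  have hs := fun g => pair_shape (S := US hq 4) ht M h0 h1 h2 h3 hb (g := g)
  obtain ⟨a, ha, ha0⟩ := (richGL_SU hq (le_refl 2)).ex
  replace ha : σ a = -a := eq_neg_of_add_eq_zero_right ha
  have key : ∀ x y : F, x * y = 1 → x * σ y = 1 → x = y := fun x y h1 h2 => by
    have h4 : y ^ q = y := mul_left_cancel₀ (left_ne_zero_of_mul_eq_one h1) (h2.trans h1.symm)
    have h5 : y ≠ 0 := right_ne_zero_of_mul_eq_one h1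
    apply mul_right_cancel₀ h5
    obtain rfl | rfl : q = 2 ∨ q = 3 := by omega
    · rw [h1, mul_left_cancel₀ h5 ((sq y).symm.trans (h4.trans (mul_one y).symm)), mul_one]
    · exact h1.trans (mul_left_cancel₀ h5 (by linear_combination -h4))
  refine M.not_max hH (fun u v => u 0 * v 1 - u 1 * v 0 - u 2 * v 3 + u 3 * v 2 = 0) (fun g hg u v hu => ?_) ?_ ?_
  · have hc := hG.fm_col hg.2.1
    have hd := M.mem_SL.1 hg.2.2
    obtain ⟨a, b, c, d, a', b', c', d', h | h⟩ := hs g hg.1 <;> rw [h] at hc hd ⊢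
    · have e1 := hc 0 2
      have e2 := hc 0 3
      have e3 := hc 1 2
      have e4 := hc 1 3
      simp [fm, Fin.sum_univ_four] at e1 e2 e3 e4
      have := key (a * d - b * c) (a' * d' - b' * c') (by
        rw [← hd]; simp [Matrix.det_succ_row_zero, Fin.sum_univ_succ, Fin.succAbove]; ring) (by
        simp only [map_sub, map_mul]
        linear_combination (b * σ b' + d * σ d') * e1 + e4 - (b * σ a' + d * σ c') * e2)
      simp [Matrix.mulVec, dotProduct, Fin.sum_univ_four]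
      linear_combination (a * d - b * c) * hu + (u 2 * v 3 - u 3 * v 2) * this
    · have e1 := hc 0 2
      have e2 := hc 0 3
      have e3 := hc 1 2
      have e4 := hc 1 3
      simp [fm, Fin.sum_univ_four] at e1 e2 e3 e4
      have := key (a * d - b * c) (a' * d' - b' * c') (by
        rw [← hd]; simp [Matrix.det_succ_row_zero, Fin.sum_univ_succ, Fin.succAbove]; ring) (by
        simp only [map_sub, map_mul]
        linear_combination (b * σ b' + d * σ d') * e1 + e4 - (b * σ a' + d * σ c') * e2)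
      simp [Matrix.mulVec, dotProduct, Fin.sum_univ_four]
      linear_combination -(a * d - b * c) * hu - (u 2 * v 3 - u 3 * v 2) * this
  · obtain ⟨g, hg, e⟩ := hG.exists_su !![1, a, a, 0; 0, 1, 0, 0; 0, 0, 1, 0; 0, a, a, 1]
      !![1, -a, -a, 0; 0, 1, 0, 0; 0, 0, 1, 0; 0, -a, -a, 1] ⟨by
        ext i j; fin_cases i <;> fin_cases j <;> simp [Matrix.mul_apply, Fin.sum_univ_four], fun i j => by
        fin_cases i <;> fin_cases j <;> simp [fm, Fin.sum_univ_four, ha]⟩ (by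
        simp [Matrix.det_succ_row_zero, Fin.sum_univ_succ, Fin.succAbove])
    refine ⟨g, hg, e ▸ fun u v h => ?_, fun h => ?_⟩
    · simp [Matrix.mulVec, dotProduct, Fin.sum_univ_four]
      linear_combination h
    · obtain ⟨a, b, c, d, a', b', c', d', h | h⟩ := hs g h.1 <;> rw [e] at h
      · exact ha0 (congrFun (congrFun h 0) 2)
      · exact one_ne_zero (congrFun (congrFun h 0) 0)
  · obtain ⟨g, hg, e⟩ := hG.exists_su !![1, 0, a, 0; 0, 1, 0, 0; 0, 0, 1, 0; 0, 0, 0, 1]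
      !![1, 0, -a, 0; 0, 1, 0, 0; 0, 0, 1, 0; 0, 0, 0, 1] ⟨by
        ext i j; fin_cases i <;> fin_cases j <;> simp [Matrix.mul_apply, Fin.sum_univ_four], fun i j => by
        fin_cases i <;> fin_cases j <;> simp [fm, Fin.sum_univ_four, ha]⟩ (by
        simp [Matrix.det_succ_row_zero, Fin.sum_univ_succ, Fin.succAbove])
    refine ⟨g, hg, e ▸ fun h => ha0 ?_⟩
    simpa [Matrix.mulVec, dotProduct, Fin.sum_univ_four] using h ![0, 0, 1, 0] ![0, 1, 0, 0] (by simp)

end Cfsg.Agent.H2.Cases
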